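import Mathlib
import Cfsg.Prelude.Def_Blocks
import Cfsg.Agent.Lib.Invol.BSW.Basic
import Cfsg.Agent.Lib.Block.BSWRec.Recognize
import Cfsg.Agent.Lib.Block.SchurIndicator
import Cfsg.Agent.Lib.Char.DefectOneSetup

/-!
A trivial intersection cyclic subgroup `E` of odd order and index two in its normalizer, in a group
with a single character of prime degree `p` congruent to one modulo `|E|`: the characters of degree
`p + 1` not vanishing on `E`, which are real.
-/

set_option autoImplicit false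
set_option linter.style.haveILetI false
set_option linter.unusedSectionVars false

namespace Cfsg.Agent.Block.UniqueDegP

open Cfsg Cfsg.Agent.Char Cfsg.Agent.Invol
open scoped ComplexConjugate

universe u

variable {G : Type u} [Group G]

/-- The structure of the normalizer of `E`. -/
theorem odd_struct [Finite G] [IsSimpleGroup G] (hna : ¬ ∀ a b : G, a * b = b * a) {E : Subgroup G}
    (hcyc : IsCyclic E) (hodd : Odd (Nat.card E))
    (hN : Nat.card (Subgroup.normalizer (E : Set G)) = 2 * Nat.card E)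
    (hTI : ∀ g : G, g ∉ Subgroup.normalizer (E : Set G) →
      E ⊓ E.map (MulAut.conj g).toMonoidHom = ⊥) :
    (∀ u ∈ E, u ≠ 1 → Subgroup.centralizer ({u} : Set G) = E) ∧
      (∀ u ∈ E, ∀ v ∈ E, u ≠ 1 → IsConj u v → v = u ∨ v = u⁻¹) ∧
      ∀ u ∈ E, IsConj u u⁻¹ := by
  classical
  haveI := hcyc
  haveI : Fact (Nat.Prime 2) := ⟨Nat.prime_two⟩
  set C := Subgroup.normalizer (E : Set G) with hC
  have hEC : E ≤ C := Subgroup.le_normalizer
  have hcomm : ∀ a ∈ E, ∀ b ∈ E, a * b = b * a := fun a ha b hb =>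
    congrArg Subtype.val ((IsCyclic.commGroup (α := E)).mul_comm ⟨a, ha⟩ ⟨b, hb⟩)
  have hti : ∀ g a : G, a ∈ E → g * a * g⁻¹ ∈ E → a ≠ 1 → g ∈ C := fun g a ha h1 h0 => by
    by_contra hg
    have h : g * a * g⁻¹ ∈ E ⊓ E.map (MulAut.conj g).toMonoidHom := ⟨h1, a, ha, rfl⟩
    rw [hTI g hg, Subgroup.mem_bot] at h
    exact h0 (conj_eq_one_iff.1 h)
  have hEidx : (E.subgroupOf C).index = 2 := by
    have h1 := (E.subgroupOf C).card_mul_index
    rw [Nat.card_congr (Subgroup.subgroupOfEquivOfLe hEC).toEquiv, hN, mul_comm 2] at h1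
    exact Nat.eq_of_mul_eq_mul_left Nat.card_pos h1
  have hmul : ∀ a b : G, a ∈ C → b ∈ C → (a * b ∈ E ↔ (a ∈ E ↔ b ∈ E)) := fun a b ha hb => by
    simpa [Subgroup.mem_subgroupOf] using
      Subgroup.mul_mem_iff_of_index_two hEidx (a := ⟨a, ha⟩) (b := ⟨b, hb⟩)
  obtain ⟨t', ht'⟩ := exists_prime_orderOf_dvd_card' (G := C) 2 (hN ▸ dvd_mul_right 2 _)
  obtain ⟨t, ht, htC⟩ : ∃ t : G, orderOf t = 2 ∧ t ∈ C :=
    ⟨t', by rw [Subgroup.orderOf_coe, ht'], t'.2⟩
  have htE : t ∉ E := fun h => hodd.not_two_dvd_nat (ht ▸ E.orderOf_dvd_natCard h)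
  have htinv : t⁻¹ = t := BSW.inv_self_of_two ht
  have htt : t * t = 1 := (BSW.orderOf_two_iff.1 ht).1
  have hconjE : ∀ a ∈ E, t * a * t ∈ E := fun a ha => by
    simpa [htinv] using (Subgroup.mem_normalizer_iff.1 htC a).1 ha
  have hcases : ∀ g ∈ C, g ∈ E ∨ g * t ∈ E := fun g hg => by
    by_cases h : g ∈ E
    · exact Or.inl h
    · exact Or.inr ((hmul g t hg htC).2 (iff_of_false h htE))
  have hfix : ∀ c ∈ E, c * t = t * c → c = 1 := by
    intro c hc hct
    by_contra hc1
    obtain ⟨q, hq, hqd⟩ := Nat.exists_prime_and_dvd (n := orderOf c)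
      (fun h => hc1 (orderOf_eq_one_iff.1 h))
    haveI : Fact q.Prime := ⟨hq⟩
    set d := c ^ (orderOf c / q) with hd
    have hdo : orderOf d = q := orderOf_pow_orderOf_div (orderOf_pos c).ne' hqd
    have hdE : d ∈ E := pow_mem hc _
    have hd1 : d ≠ 1 := fun h => hq.ne_one (by rw [← hdo, h, orderOf_one])
    have hdt : d * t = t * d := ((show Commute c t from hct).pow_left _).eq
    have hq2 : q ≠ 2 := fun h => hodd.not_two_dvd_nat (h ▸ hdo ▸ E.orderOf_dvd_natCard hdE)
    obtain ⟨Q₀, hQ₀⟩ := (IsPGroup.of_card (n := 1) (by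
      rw [Nat.card_zpowers, Subgroup.orderOf_mk, hdo, pow_one]) :
        IsPGroup q (Subgroup.zpowers (⟨d, hdE⟩ : E))).exists_le_sylow
    set Q := (Q₀ : Subgroup E).map E.subtype with hQ
    have hQE : Q ≤ E := Subgroup.map_subtype_le _
    have hdQ : d ∈ Q := ⟨⟨d, hdE⟩, hQ₀ (Subgroup.mem_zpowers _), rfl⟩
    obtain ⟨T, hT⟩ := (Q₀.isPGroup'.map E.subtype).exists_le_sylow
    have hmax : ∀ g ∈ (T : Subgroup G), g ∈ C → g ∈ Q := by
      intro g hg hgC
      have hgE : g ∈ E := by
        rcases hcases g hgC with h | h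
        · exact h
        exfalso
        obtain ⟨j, hj⟩ := IsPGroup.iff_orderOf.1 T.isPGroup' ⟨g, hg⟩
        rw [Subgroup.orderOf_mk] at hj
        have hgo : Odd (orderOf g) := hj ▸ (hq.odd_of_ne_two hq2).pow
        obtain ⟨k, hk⟩ := hgo
        have h2 : g * g ∈ E := (hmul g g hgC hgC).2 Iff.rfl
        have h3 : g ∈ E := by
          have h4 : (g * g) ^ (k + 1) = g := by
            rw [← pow_two, ← pow_mul, show 2 * (k + 1) = orderOf g + 1 by omega, pow_succ,
              pow_orderOf_eq_one, one_mul]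
          rw [← h4]
          exact pow_mem h2 _
        exact htE ((Subgroup.mul_mem_cancel_left E h3).1 h)
      have h1 : (T : Subgroup G).comap E.subtype = Q₀ :=
        Q₀.3 (T.isPGroup'.comap_of_injective E.subtype E.subtype_injective)
          (Subgroup.map_le_iff_le_comap.1 hT)
      exact ⟨⟨g, hgE⟩, by rw [SetLike.mem_coe, ← h1]; exact hg, rfl⟩
    have hTQ : (T : Subgroup G) ≤ Q := by
      by_contra hne
      obtain ⟨g₀, hg₀, hg₀'⟩ := SetLike.not_le_iff_exists.1 hne
      haveI := T.isPGroup'.isNilpotent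
      have hlt : Q.subgroupOf (T : Subgroup G) < ⊤ := lt_top_iff_ne_top.2 fun e => hg₀' (by
        have h1 : (⟨g₀, hg₀⟩ : (T : Subgroup G)) ∈ Q.subgroupOf (T : Subgroup G) :=
          e ▸ Subgroup.mem_top _
        exact h1)
      obtain ⟨g, hgn, hgQ⟩ :=
        SetLike.exists_of_lt (Group.normalizerCondition_of_isNilpotent _ hlt)
      refine hgQ (Subgroup.mem_subgroupOf.2 (hmax g g.2 (hti g d hdE (hQE ?_) hd1)))
      have := (Subgroup.mem_normalizer_iff.1 hgn ⟨d, hT hdQ⟩).1 hdQ
      simpa [Subgroup.mem_subgroupOf] using this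
    have htQ : ∀ b ∈ Q, t * b * t = b := by
      intro b hb
      by_contra hbne
      set v := b⁻¹ * (t * b * t) with hv
      have hvE : v ∈ E := mul_mem (inv_mem (hQE hb)) (hconjE b (hQE hb))
      have hv1 : v ≠ 1 := fun h => hbne (inv_mul_eq_one.1 h).symm
      have hvt : t * v * t = v⁻¹ := by
        rw [hv, mul_inv_rev, inv_inv, hcomm _ (inv_mem (hconjE b (hQE hb))) _ (hQE hb),
          show t * (b⁻¹ * (t * b * t)) * t = t * b⁻¹ * t * b * (t * t) by group, htt, mul_one,
          show (t * b * t)⁻¹ = t⁻¹ * b⁻¹ * t⁻¹ by group, htinv,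
          hcomm b (hQE hb) _ (by
            have := inv_mem (hconjE b (hQE hb))
            rwa [show (t * b * t)⁻¹ = t⁻¹ * b⁻¹ * t⁻¹ by group, htinv] at this)]
      have hbo : ∃ j, orderOf v ∣ q ^ j := by
        obtain ⟨j, hj⟩ := IsPGroup.iff_orderOf.1 (Q₀.isPGroup'.map E.subtype) ⟨b, hb⟩
        rw [Subgroup.orderOf_mk] at hj
        refine ⟨j, orderOf_dvd_of_pow_eq_one ?_⟩
        have h2 : b ^ q ^ j = 1 := by rw [← hj, pow_orderOf_eq_one]
        rw [hv, (show Commute b⁻¹ (t * b * t) from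
          hcomm _ (inv_mem (hQE hb)) _ (hconjE b (hQE hb))).mul_pow, inv_pow, h2, inv_one, one_mul,
          show t * b * t = t * b * t⁻¹ by rw [htinv], conj_pow, h2, mul_one, mul_inv_cancel]
      obtain ⟨j, hj⟩ := hbo
      obtain ⟨k, -, hk⟩ := (Nat.dvd_prime_pow hq).1 hj
      rcases k with _ | k
      · exact hv1 (orderOf_eq_one_iff.1 (by rw [hk, pow_zero]))
      set w := v ^ q ^ k with hw
      have hwo : orderOf w = q := by
        rw [hw, orderOf_pow' v (pow_ne_zero _ hq.pos.ne'), hk,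
          Nat.gcd_eq_right (pow_dvd_pow q k.le_succ), pow_succ,
          Nat.mul_div_cancel_left _ (pow_pos hq.pos k)]
      have hwE : w ∈ E := pow_mem hvE _
      have heq : Subgroup.zpowers (⟨w, hwE⟩ : E) = Subgroup.zpowers (⟨d, hdE⟩ : E) :=
        BSWRec.subgroup_eq_of_card (by
          rw [Nat.card_zpowers, Nat.card_zpowers, Subgroup.orderOf_mk, Subgroup.orderOf_mk, hwo, hdo])
      obtain ⟨i, hi⟩ := heq ▸ Subgroup.mem_zpowers (⟨w, hwE⟩ : E)
      have hi' : d ^ i = w := congrArg Subtype.val hi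
      have h1 : w * t = t * w := hi' ▸ ((show Commute d t from hdt).zpow_left i).eq
      have h2 : t * w * t = w⁻¹ := by
        rw [hw, show t * v ^ q ^ k * t = t * v ^ q ^ k * t⁻¹ by rw [htinv], ← conj_pow, htinv, hvt,
          inv_pow]
      rw [← h1, mul_assoc, htt, mul_one] at h2
      have h3 : w ^ 2 = 1 := by rw [pow_two]; nth_rewrite 2 [h2]; rw [mul_inv_cancel]
      have h4 := orderOf_dvd_of_pow_eq_one h3
      rw [hwo] at h4
      exact hq2 ((Nat.prime_dvd_prime_iff_eq hq Nat.prime_two).1 h4)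
    have hle : Subgroup.normalizer ((T : Subgroup G) : Set G) ≤
        Subgroup.centralizer ((T : Subgroup G) : Set G) := by
      intro n hn
      have hnC : n ∈ C :=
        hti n d hdE (hQE (hTQ ((Subgroup.mem_normalizer_iff.1 hn d).1 (hT hdQ)))) hd1
      refine Subgroup.mem_centralizer_iff.2 fun b hb => ?_
      have hbQ : b ∈ Q := hTQ hb
      rcases hcases n hnC with h | h
      · exact hcomm b (hQE hbQ) n h
      · have h1 := hcomm b (hQE hbQ) _ h
        have h2 : t * b = b * t := by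
          conv_rhs => rw [← htQ b hbQ]
          rw [mul_assoc (t * b), htt, mul_one]
        calc b * n = b * (n * t) * t := by rw [mul_assoc b, mul_assoc n, htt, mul_one]
          _ = n * t * (b * t) := by rw [h1]; group
          _ = n * (t * t) * b := by rw [← h2]; group
          _ = n * b := by rw [htt, mul_one]
    have hcomp := MonoidHom.ker_transferSylow_isComplement' T hle
    rcases (MonoidHom.normal_ker (MonoidHom.transferSylow T hle)).eq_bot_or_eq_top with h | h
    · rw [h, Subgroup.isComplement'_bot_left] at hcomp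
      exact hna fun a b => hcomm a (hQE (hTQ (hcomp ▸ Subgroup.mem_top a))) b
        (hQE (hTQ (hcomp ▸ Subgroup.mem_top b)))
    · rw [h, Subgroup.isComplement'_top_left] at hcomp
      have h1 : d ∈ (⊥ : Subgroup G) := hcomp ▸ hT hdQ
      exact hd1 (Subgroup.mem_bot.1 h1)
  have hinv : ∀ a ∈ E, t * a * t⁻¹ = a⁻¹ := by
    intro a ha
    have h1 := hfix _ (mul_mem ha (hconjE a ha)) (by
      rw [show a * (t * a * t) * t = a * (t * a) * (t * t) by group, htt, mul_one,
        show t * (a * (t * a * t)) = (t * a * t) * a * t by group, ← hcomm a ha _ (hconjE a ha),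
        show a * (t * a * t) * t = a * (t * a) * (t * t) by group, htt, mul_one])
    rw [htinv, eq_inv_of_mul_eq_one_right h1]
  have hodd1 : ∀ u ∈ E, u⁻¹ = u → u = 1 := fun u hu h => by
    by_contra h1
    have h2 : orderOf u = 2 := BSW.orderOf_two_iff.2 ⟨inv_eq_iff_mul_eq_one.1 h, h1⟩
    exact hodd.not_two_dvd_nat (h2 ▸ E.orderOf_dvd_natCard hu)
  have hconj' : ∀ g u : G, u ∈ E → u ≠ 1 → g ∈ C →
      g * u * g⁻¹ = if g ∈ E then u else u⁻¹ := by
    intro g u hu hu1 hg
    split_ifs with h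
    · rw [hcomm g h u hu, mul_inv_cancel_right]
    · have h1 := (hcases g hg).resolve_left h
      have h2 : g = g * t * t := by rw [mul_assoc, htt, mul_one]
      rw [h2, show g * t * t * u * (g * t * t)⁻¹ = (g * t) * (t * u * t⁻¹) * (g * t)⁻¹ by group,
        hinv u hu, hcomm _ h1 _ (inv_mem hu), mul_inv_cancel_right]
  refine ⟨fun u hu hu1 => le_antisymm (fun v hv => ?_) fun v hv => ?_, ?_, fun u hu => ?_⟩
  · rw [Subgroup.mem_centralizer_singleton_iff] at hv
    have hvC : v ∈ C := hti v u hu (by rwa [hv, mul_inv_cancel_right]) hu1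
    by_contra hvE
    have h := hconj' v u hu hu1 hvC
    rw [if_neg hvE, hv, mul_inv_cancel_right] at h
    exact hu1 (hodd1 u hu h.symm)
  · exact Subgroup.mem_centralizer_singleton_iff.2 (hcomm v hv u hu)
  · intro u hu v hv hu1 huv
    obtain ⟨g, rfl⟩ := isConj_iff.1 huv
    rw [hconj' g u hu hu1 (hti g u hu hv hu1)]
    split_ifs
    · exact Or.inl rfl
    · exact Or.inr rfl
  · exact isConj_iff.2 ⟨t, hinv u hu⟩

variable [Fintype G]

/-- The indicators recover the number of square roots. -/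
theorem sum_ind (u : G) :
    ∑ χ : IrrCharacter G, FS.ind (χ : G → ℂ) * (χ : G → ℂ) u =
      (Nat.card {y : G // y * y = u} : ℂ) := by
  classical
  set f : G → ℂ := fun u => (Nat.card {y : G // y * y = u} : ℂ) with hf
  have hcl : IsClassFunction G f := fun a t => by
    show ((Nat.card {y : G // y * y = t * a * t⁻¹} : ℂ)) = _
    congr 1
    refine Nat.card_congr ((MulAut.conj t).toEquiv.subtypeEquiv fun y => ?_).symm
    show y * y = a ↔ (t * y * t⁻¹) * (t * y * t⁻¹) = t * a * t⁻¹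
    rw [show (t * y * t⁻¹) * (t * y * t⁻¹) = t * (y * y) * t⁻¹ by group, mul_left_inj,
      mul_right_inj]
  have hcoef : ∀ χ : IrrCharacter G, classInner f (χ : G → ℂ) = FS.ind (χ : G → ℂ) := by
    intro χ
    have h1 : conj (FS.ind (χ : G → ℂ)) = FS.ind (χ : G → ℂ) := by
      rcases FS.ind_eq χ with ⟨h, -⟩ | ⟨h | h, -⟩ <;> simp [h]
    rw [← h1, classInner, FS.ind, map_mul, map_inv₀, map_natCast, map_sum]
    conv_rhs => rw [← Finset.sum_fiberwise Finset.univ fun y : G => y * y]
    congr 1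
    refine Finset.sum_congr rfl fun a _ => ?_
    rw [Finset.sum_congr rfl (g := fun _ => conj ((χ : G → ℂ) a)) fun y hy => by
      rw [(Finset.mem_filter.1 hy).2], Finset.sum_const, nsmul_eq_mul]
    show (Nat.card {y : G // y * y = a} : ℂ) * _ = _
    rw [Nat.card_eq_fintype_card, Fintype.card_subtype]
  have h2 := congrFun (classFunction_expansion hcl) u
  simp only [Finset.sum_apply, Pi.smul_apply, smul_eq_mul, hcoef] at h2
  exact h2.symm

/-- A symmetric integral function vanishing at zero has an even sum. -/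
theorem even_sum_of_symm {e : ℕ} [NeZero e] (ho : Odd e) (f : ZMod e → ℤ) (h0 : f 0 = 0)
    (hs : ∀ j, f (-j) = f j) : Even (∑ j, f j) := by
  rw [← ZMod.intCast_eq_zero_iff_even, Int.cast_sum]
  refine Finset.sum_involution (fun j _ => -j) (fun j _ => ?_) (fun j _ hj h => hj ?_)
    (fun j _ => Finset.mem_univ _) fun j _ => neg_neg j
  · rw [hs]; exact CharTwo.add_self_eq_zero _
  · rw [ZMod.neg_eq_self_iff] at h
    rcases h with h | h
    · rw [h, h0, Int.cast_zero]
    · exact absurd ⟨j.val, h.symm.trans (two_mul _)⟩ (Nat.not_even_iff_odd.2 ho)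

/-- The characters of degree `p + 1`. -/
theorem eside {p : ℕ} (h5 : 5 ≤ p) {E : Subgroup G} (hcyc : IsCyclic E) (hodd : Odd (Nat.card E))
    (h3 : 3 ≤ Nat.card E) (hdvd : Nat.card E ∣ p - 1)
    (hcent : ∀ u ∈ E, u ≠ 1 → Subgroup.centralizer ({u} : Set G) = E)
    (hconj : ∀ u ∈ E, ∀ v ∈ E, u ≠ 1 → IsConj u v → v = u ∨ v = u⁻¹)
    (hinv : ∀ u ∈ E, IsConj u u⁻¹)
    (χp : IrrCharacter G) (hχp : charDegree (χp : G → ℂ) = p)
    (huniq : ∀ χ : IrrCharacter G, charDegree (χ : G → ℂ) = p → χ = χp) :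
    ∃ S : Finset (IrrCharacter G), 2 * S.card + 1 = Nat.card E ∧
      (∀ χ ∈ S, charDegree (χ : G → ℂ) = p + 1 ∧ FS.ind (χ : G → ℂ) = FS.ind (χp : G → ℂ)) ∧
      (FS.ind (χp : G → ℂ) = 1 ∨ FS.ind (χp : G → ℂ) = -1) ∧ χp ∉ S ∧ trivialIrr G ∉ S := by
  classical
  haveI := hcyc
  obtain ⟨e, he⟩ : ∃ e, Nat.card E = e := ⟨_, rfl⟩
  rw [he] at hodd h3 hdvd ⊢
  haveI : NeZero e := ⟨by omega⟩
  let φ : Multiplicative (ZMod e) ≃* E := he ▸ zmodCyclicMulEquiv hcyc
  let gp : ZMod e → G := fun i => (φ (Multiplicative.ofAdd i) : G)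
  have gp_add : ∀ i j, gp (i + j) = gp i * gp j := fun i j => by
    simp only [gp, ofAdd_add, map_mul, Subgroup.coe_mul]
  have gp_neg : ∀ i, gp (-i) = (gp i)⁻¹ := fun i => by
    simp only [gp, ofAdd_neg, map_inv, Subgroup.coe_inv]
  have gp_zero : gp 0 = 1 := by simp only [gp, ofAdd_zero, map_one, Subgroup.coe_one]
  have gp_inj : Function.Injective gp := fun i j h =>
    Multiplicative.ofAdd.injective (φ.injective (Subtype.ext h))
  have gp_mem : ∀ i, gp i ∈ E := fun i => (φ _).2
  have gp_ne : ∀ i, i ≠ 0 → gp i ≠ 1 := fun i hi h => hi (gp_inj (h.trans gp_zero.symm))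
  have gp_surj : ∀ x ∈ E, ∃ i, gp i = x := fun x hx =>
    ⟨Multiplicative.toAdd (φ.symm ⟨x, hx⟩), by simp [gp]⟩
  have hne : ∀ i : ZMod e, i ≠ 0 → -i ≠ i := fun i hi h => by
    rw [ZMod.neg_eq_self_iff] at h
    rcases h with h | h
    · exact hi h
    · exact absurd ⟨i.val, h.symm.trans (two_mul _)⟩ (Nat.not_even_iff_odd.2 hodd)
  set ψ : AddChar (ZMod e) ℂ := ZMod.stdAddChar with hψ
  have hψc : ∀ i, conj (ψ i) = ψ (-i) := fun i => (AddChar.map_neg_eq_conj ψ i).symm
  have hsum : ∀ j : ZMod e, ∑ i, ψ (i * j) = if j = 0 then (e : ℂ) else 0 := fun j => by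
    rw [AddChar.sum_mulShift j (ZMod.isPrimitive_stdAddChar e), ZMod.card]
    split_ifs <;> simp
  have hsum' : ∀ i : ZMod e, ∑ j, ψ (-(i * j)) = if i = 0 then (e : ℂ) else 0 := fun i => by
    rw [Finset.sum_congr rfl (g := fun j => ψ (j * -i)) fun j _ => by ring_nf, hsum]
    simp only [neg_eq_zero]
  have heC : (e : ℂ) ≠ 0 := Nat.cast_ne_zero.2 (NeZero.ne e)
  have hsymm : ∀ (χ : IrrCharacter G) i, (χ : G → ℂ) (gp (-i)) = (χ : G → ℂ) (gp i) := fun χ i => by
    rw [gp_neg]
    exact (IsClass.eq_of_isConj (irr_classFun χ) (hinv _ (gp_mem i))).symm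
  -- integrality of the coefficients
  have hb : ∀ (χ : IrrCharacter G) (j : ZMod e),
      ∃ n : ℕ, (e : ℂ)⁻¹ * ∑ i, (χ : G → ℂ) (gp i) * ψ (i * j) = n := by
    intro χ j
    let l : E →* ℂˣ := (MonoidHom.toHomUnits (AddChar.toMonoidHom (ψ.mulShift (-j)))).comp
      φ.symm.toMonoidHom
    obtain ⟨n, hn⟩ := IsChar.classInner_nat (IsChar.res (IsIrr.isCharacter χ.2) E)
      (IsIrr.isCharacter (isIrr_linear l))
    refine ⟨n, ?_⟩
    rw [← hn, classInner, he]
    congr 1
    refine Fintype.sum_equiv ((Multiplicative.ofAdd).trans φ.toEquiv) _ _ fun i => ?_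
    change (χ : G → ℂ) (gp i) * ψ (i * j) = (χ : G → ℂ) (gp i) *
      conj (ψ (-j * Multiplicative.toAdd (φ.symm (φ (Multiplicative.ofAdd i)))))
    rw [φ.symm_apply_apply, toAdd_ofAdd, hψc]
    ring_nf
  choose b hb using hb
  set a : IrrCharacter G → ZMod e → ℤ := fun χ j => (b χ 0 : ℤ) - b χ j with ha
  have haC : ∀ χ j, ((a χ j : ℤ) : ℂ) =
      (e : ℂ)⁻¹ * ∑ i, (χ : G → ℂ) (gp i) * (1 - ψ (i * j)) := by
    intro χ j
    simp only [ha, Int.cast_sub, Int.cast_natCast, ← hb, mul_sub, mul_one, Finset.sum_sub_distrib,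
      mul_zero, AddChar.map_zero_eq_one]
  have ha0 : ∀ χ, a χ 0 = 0 := fun χ => sub_self _
  have haneg : ∀ χ j, a χ (-j) = a χ j := by
    intro χ j
    refine Int.cast_injective (α := ℂ) ?_
    rw [haC, haC]
    congr 1
    refine Fintype.sum_equiv (Equiv.neg (ZMod e)) _ _ fun i => ?_
    rw [Equiv.neg_apply, hsymm]
    ring_nf
  -- the values on `E`
  have hval : ∀ (χ : IrrCharacter G) (i : ZMod e), i ≠ 0 →
      (χ : G → ℂ) (gp i) = -∑ j, (a χ j : ℂ) * ψ (-(i * j)) := by
    intro χ i hi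
    simp only [haC, mul_assoc, Finset.sum_mul, ← Finset.mul_sum]
    rw [Finset.sum_comm]
    have h1 : ∀ k, ∑ j, (χ : G → ℂ) (gp k) * ((1 - ψ (k * j)) * ψ (-(i * j))) =
        if k = i then -((e : ℂ) * (χ : G → ℂ) (gp k)) else 0 := fun k => by
      rw [← Finset.mul_sum, Finset.sum_congr rfl
        (g := fun j => ψ (-(i * j)) - ψ (-((i - k) * j))) fun j _ => by
          rw [sub_mul, one_mul, ← AddChar.map_add_eq_mul]; ring_nf,
        Finset.sum_sub_distrib, hsum', hsum', if_neg hi]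
      simp only [sub_eq_zero]
      by_cases hki : k = i
      · rw [if_pos hki, if_pos hki.symm]; ring
      · rw [if_neg hki, if_neg (Ne.symm hki)]; ring
    rw [Finset.sum_congr rfl fun k _ => h1 k, Finset.sum_ite_eq' Finset.univ,
      if_pos (Finset.mem_univ _), mul_neg, neg_neg, inv_mul_cancel_left₀ heC]
  have hdeg : ∀ χ : IrrCharacter G,
      (e : ℤ) ∣ (charDegree (χ : G → ℂ) : ℤ) + ∑ j, a χ j := by
    intro χ
    refine ⟨b χ 0, Int.cast_injective (α := ℂ) ?_⟩
    push_cast
    simp only [haC, ← Finset.mul_sum]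
    rw [Finset.sum_comm, ← hb, ← charDeg_spec', mul_inv_cancel_left₀ heC]
    have h1 : ∀ k, ∑ j, (χ : G → ℂ) (gp k) * (1 - ψ (k * j)) =
        (e : ℂ) * (χ : G → ℂ) (gp k) - if k = 0 then (e : ℂ) * (χ : G → ℂ) (gp k) else 0 := fun k => by
      rw [← Finset.mul_sum, Finset.sum_sub_distrib, Finset.sum_const, Finset.card_univ, ZMod.card,
        nsmul_one, Finset.sum_congr rfl (g := fun j => ψ (j * k)) fun j _ => by rw [mul_comm], hsum]
      split_ifs <;> ring
    rw [Finset.sum_congr rfl fun k _ => h1 k, Finset.sum_sub_distrib,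
      Finset.sum_ite_eq' Finset.univ, if_pos (Finset.mem_univ _), gp_zero, ← Finset.mul_sum,
      mul_sub, inv_mul_cancel_left₀ heC, inv_mul_cancel_left₀ heC]
    simp
  have hzero : ∀ j, ∑ χ : IrrCharacter G, a χ j * (charDegree (χ : G → ℂ) : ℤ) = 0 := by
    intro j
    refine Int.cast_injective (α := ℂ) ?_
    push_cast
    simp only [haC, mul_assoc, Finset.sum_mul, ← Finset.mul_sum]
    rw [Finset.sum_comm, Finset.sum_eq_zero fun i _ => ?_, mul_zero]
    by_cases hi : i = 0
    · exact Finset.sum_eq_zero fun χ _ => by rw [hi, zero_mul, AddChar.map_zero_eq_one, sub_self,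
        zero_mul, mul_zero]
    rw [Finset.sum_congr rfl
      (g := fun χ : IrrCharacter G => (1 - ψ (i * j)) * ((χ : G → ℂ) (gp i) * conj ((χ : G → ℂ) 1)))
      fun χ _ => by rw [charDeg_spec', map_natCast]; ring,
      ← Finset.mul_sum, sum_irr_mul_conj, if_neg, mul_zero]
    exact fun h => gp_ne i hi (isConj_one_left.1 h)
  have horth : ∀ j l, j ≠ 0 → l ≠ 0 → ∑ χ : IrrCharacter G, a χ j * a χ l =
      2 + (if j = l then 1 else 0) + (if j = -l then 1 else 0) := by
    intro j l hj hl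
    refine Int.cast_injective (α := ℂ) ?_
    have hS : ∀ i k, i ≠ 0 → k ≠ 0 →
        ∑ χ : IrrCharacter G, (χ : G → ℂ) (gp i) * conj ((χ : G → ℂ) (gp k)) =
          (if k = i then (e : ℂ) else 0) + if k = -i then (e : ℂ) else 0 := by
      intro i k hi hk
      rw [sum_irr_mul_conj, hcent _ (gp_mem k) (gp_ne k hk), he]
      by_cases h1 : k = i
      · subst h1
        rw [if_pos (IsConj.refl _), if_pos rfl, if_neg (hne k hk).symm, add_zero]
      by_cases h2 : k = -i
      · subst h2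
        rw [if_pos (by rw [gp_neg]; exact hinv _ (gp_mem i)), if_neg h1, if_pos rfl, zero_add]
      rw [if_neg, if_neg h1, if_neg h2, add_zero]
      intro h
      rcases hconj _ (gp_mem i) _ (gp_mem k) (gp_ne i hi) h with h3 | h3
      · exact h1 (gp_inj h3)
      · exact h2 (gp_inj (h3.trans (gp_neg i).symm))
    have hterm : ∀ i, ∑ k, (1 - ψ (i * j)) * conj (1 - ψ (k * l)) *
        ∑ χ : IrrCharacter G, (χ : G → ℂ) (gp i) * conj ((χ : G → ℂ) (gp k)) =
        (e : ℂ) * ((1 - ψ (i * j)) * ((1 - ψ (i * -l)) + (1 - ψ (i * l)))) := by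
      intro i
      by_cases hi : i = 0
      · rw [hi, Finset.sum_eq_zero fun k _ => by
          rw [zero_mul, AddChar.map_zero_eq_one, sub_self, zero_mul, zero_mul]]
        simp
      rw [Finset.sum_congr rfl (g := fun k => (if k = i then
          (e : ℂ) * ((1 - ψ (i * j)) * conj (1 - ψ (k * l))) else 0) + if k = -i then
          (e : ℂ) * ((1 - ψ (i * j)) * conj (1 - ψ (k * l))) else 0) fun k _ => ?_,
        Finset.sum_add_distrib, Finset.sum_ite_eq', Finset.sum_ite_eq', if_pos (Finset.mem_univ _),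
        if_pos (Finset.mem_univ _), map_sub, map_sub, map_one, hψc, hψc]
      · ring_nf
      by_cases hk : k = 0
      · rw [hk]; simp
      rw [hS i k hi hk]
      split_ifs <;> ring
    have hreal : ∀ χ : IrrCharacter G, ((a χ l : ℤ) : ℂ) =
        (e : ℂ)⁻¹ * ∑ k, conj ((χ : G → ℂ) (gp k)) * conj (1 - ψ (k * l)) := fun χ => by
      rw [← map_intCast (starRingEnd ℂ) (a χ l), haC, map_mul, map_inv₀, map_natCast, map_sum]
      simp only [map_mul]
    push_cast
    rw [Finset.sum_congr rfl (g := fun χ : IrrCharacter G => (e : ℂ)⁻¹ * (e : ℂ)⁻¹ *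
      ∑ i, ∑ k, (1 - ψ (i * j)) * conj (1 - ψ (k * l)) *
        ((χ : G → ℂ) (gp i) * conj ((χ : G → ℂ) (gp k)))) fun χ _ => by
      rw [haC χ j, hreal χ, mul_mul_mul_comm, Finset.sum_mul_sum]
      refine congrArg _ (Finset.sum_congr rfl fun i _ => Finset.sum_congr rfl fun k _ => ?_)
      ring]
    rw [← Finset.mul_sum, Finset.sum_comm,
      Finset.sum_congr rfl fun i _ => (Finset.sum_comm.trans ((Finset.sum_congr rfl fun k _ =>
        (Finset.mul_sum _ _ _).symm).trans (hterm i))), ← Finset.mul_sum]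
    rw [Finset.sum_congr rfl (g := fun i => 2 - 2 * ψ (i * j) - ψ (i * -l) - ψ (i * l) +
      (ψ (i * (j - l)) + ψ (i * (j + l)))) fun i _ => by
        simp only [sub_eq_add_neg j l, mul_add i, AddChar.map_add_eq_mul]
        ring]
    simp only [Finset.sum_add_distrib, Finset.sum_sub_distrib, ← Finset.mul_sum, hsum,
      Finset.sum_const, Finset.card_univ, ZMod.card, nsmul_eq_mul, if_neg hj, if_neg hl,
      if_neg (neg_ne_zero.2 hl), sub_eq_zero, add_eq_zero_iff_eq_neg]
    split_ifs <;> field_simp <;> ring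
  -- the trivial character
  have hτ : ∀ j, j ≠ 0 → a (trivialIrr G) j = 1 := by
    intro j hj
    refine Int.cast_injective (α := ℂ) ?_
    rw [haC, Int.cast_one]
    simp only [trivialIrr, one_mul, Finset.sum_sub_distrib, Finset.sum_const, Finset.card_univ,
      ZMod.card, nsmul_one, hsum, if_neg hj, sub_zero, inv_mul_cancel₀ heC]
  have hτd : charDegree ((trivialIrr G : IrrCharacter G) : G → ℂ) = 1 :=
    Nat.cast_injective (R := ℂ) ((charDeg_spec' (trivialIrr G)).symm.trans Nat.cast_one.symm)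
  have hτp : trivialIrr G ≠ χp := fun h => by
    have := hτd
    rw [h, hχp] at this
    omega
  -- the character of degree `p`
  have hp1 : ∀ j, j ≠ 0 → a χp j = 1 := by
    have hle : ∀ j, |a χp j| ≤ if j = 0 then 0 else 1 := by
      intro j
      split_ifs with hj
      · rw [hj, ha0]; simp
      have h1 := horth j j hj hj
      rw [if_pos rfl, if_neg (hne j hj).symm] at h1
      have h2 : a (trivialIrr G) j * a (trivialIrr G) j + a χp j * a χp j ≤ 3 := by
        rw [← Finset.sum_pair (f := fun χ => a χ j * a χ j) hτp]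
        exact le_trans (Finset.sum_le_univ_sum_of_nonneg fun χ => mul_self_nonneg _) (by omega)
      rw [hτ j hj] at h2
      by_contra h
      push Not at h
      nlinarith [abs_mul_abs_self (a χp j)]
    have hcard : ∑ j : ZMod e, (if j = 0 then (0 : ℤ) else 1) = (e : ℤ) - 1 := by
      rw [Finset.sum_ite, Finset.sum_const_zero, zero_add, Finset.sum_const, Finset.filter_ne',
        Finset.card_erase_of_mem (Finset.mem_univ _), Finset.card_univ, ZMod.card, nsmul_one]
      omega
    obtain ⟨c, hc⟩ := hdeg χp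
    obtain ⟨s, hs⟩ := hdvd
    have heven := even_sum_of_symm hodd (a χp) (ha0 χp) (haneg χp)
    have hlo : -((e : ℤ) - 1) ≤ ∑ j, a χp j := by
      rw [← hcard, ← Finset.sum_neg_distrib]
      exact Finset.sum_le_sum fun j _ => (abs_le.1 (hle j)).1
    have hhi : ∑ j, a χp j ≤ (e : ℤ) - 1 := by
      rw [← hcard]
      exact Finset.sum_le_sum fun j _ => (abs_le.1 (hle j)).2
    obtain ⟨w, hw⟩ := heven
    rw [hχp, hw] at hc
    rw [hw] at hlo hhi
    have hps : (p : ℤ) = (e : ℤ) * s + 1 := by exact_mod_cast (show p = e * s + 1 by omega)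
    have hu : (e : ℤ) * (c - s) = w + w + 1 := by
      rw [mul_sub, ← hc, hps]
      ring
    have hu1 : c - s = 1 := by
      rcases lt_trichotomy (c - s) 0 with h | h | h
      · nlinarith
      · rw [h, mul_zero] at hu; omega
      · nlinarith
    rw [hu1, mul_one] at hu
    have heq : ∑ j, a χp j = ∑ j : ZMod e, (if j = 0 then (0 : ℤ) else 1) := by
      rw [hcard, hw]; omega
    intro j hj
    have := (Finset.sum_eq_sum_iff_of_le fun j _ => (abs_le.1 (hle j)).2).1 heq j (Finset.mem_univ _)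
    rwa [if_neg hj] at this
  -- the others
  set R : Finset (IrrCharacter G) := (Finset.univ.erase χp).erase (trivialIrr G) with hR
  have hsplit : ∀ F : IrrCharacter G → ℤ,
      ∑ χ, F χ = F (trivialIrr G) + F χp + ∑ χ ∈ R, F χ := fun F => by
    rw [add_comm (F _) (F χp), add_assoc, Finset.add_sum_erase _ _
      (Finset.mem_erase.2 ⟨hτp, Finset.mem_univ _⟩), Finset.add_sum_erase _ _ (Finset.mem_univ _)]
  have horth' : ∀ j l, j ≠ 0 → l ≠ 0 → ∑ χ ∈ R, a χ j * a χ l =
      (if j = l then 1 else 0) + (if j = -l then 1 else 0) := fun j l hj hl => by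
    have h := horth j l hj hl
    rw [hsplit, hτ j hj, hτ l hl, hp1 j hj, hp1 l hl] at h
    linarith
  have hex : ∀ j, ∃ χ : IrrCharacter G, j ≠ 0 → χ ∈ R ∧ (∀ χ' ∈ R, a χ' j ≠ 0 → χ' = χ) ∧
      a χ j = -1 ∧ charDegree (χ : G → ℂ) = p + 1 := by
    intro j
    by_cases hj : j = 0
    · exact ⟨χp, fun h => absurd hj h⟩
    have h1 := horth' j j hj hj
    rw [if_pos rfl, if_neg (hne j hj).symm, add_zero] at h1
    obtain ⟨χ, hχR, hχ⟩ := Finset.exists_ne_zero_of_sum_ne_zero
      (show ∑ χ ∈ R, a χ j * a χ j ≠ 0 by omega)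
    have hχ0 : a χ j ≠ 0 := fun h => hχ (by rw [h, zero_mul])
    have hrest := Finset.add_sum_erase R (fun χ => a χ j * a χ j) hχR
    rw [h1] at hrest
    have hnn : 0 ≤ ∑ χ' ∈ R.erase χ, a χ' j * a χ' j :=
      Finset.sum_nonneg fun χ' _ => mul_self_nonneg _
    have hsq : 1 ≤ a χ j * a χ j := by have := mul_self_pos.2 hχ0; omega
    have huniq' : ∀ χ' ∈ R, a χ' j ≠ 0 → χ' = χ := fun χ' hχ' h => by
      by_contra hne'
      have := (Finset.sum_eq_zero_iff_of_nonneg fun χ' _ => mul_self_nonneg (a χ' j)).1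
        (show ∑ χ' ∈ R.erase χ, a χ' j * a χ' j = 0 by omega) χ'
        (Finset.mem_erase.2 ⟨hne', hχ'⟩)
      exact h (mul_self_eq_zero.1 this)
    have hz := hzero j
    rw [hsplit, hτ j hj, hp1 j hj, hτd, hχp,
      Finset.sum_eq_single χ (fun χ' hχ' hne' => by
        rw [show a χ' j = 0 from by_contra fun h => hne' (huniq' χ' hχ' h), zero_mul])
      (fun h => absurd hχR h)] at hz
    have hone : a χ j = 1 ∨ a χ j = -1 := mul_self_eq_one_iff.1 (by omega)
    have hd0 : (0 : ℤ) ≤ (charDegree (χ : G → ℂ) : ℤ) := Nat.cast_nonneg _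
    rcases hone with h | h
    · rw [h, one_mul] at hz; omega
    · exact ⟨χ, fun _ => ⟨hχR, huniq', h, by rw [h] at hz; omega⟩⟩
  choose X hX using hex
  have hXa : ∀ j l, j ≠ 0 → l ≠ 0 →
      a (X l) j = -((if j = l then 1 else 0) + if j = -l then 1 else 0) := by
    intro j l hj hl
    obtain ⟨hXR, hXu, hX1, -⟩ := hX l hl
    have h1 := horth' j l hj hl
    rw [Finset.sum_eq_single (X l) (fun χ' hχ' hne' => by
      rw [show a χ' l = 0 from by_contra fun h => hne' (hXu χ' hχ' h), mul_zero])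
      (fun h => absurd hXR h), hX1] at h1
    omega
  have hXneg : ∀ j, j ≠ 0 → X (-j) = X j := fun j hj => by
    refine (hX j hj).2.1 _ (hX (-j) (neg_ne_zero.2 hj)).1 ?_
    rw [hXa j (-j) hj (neg_ne_zero.2 hj), if_neg (hne j hj).symm, neg_neg, if_pos rfl]
    decide
  have hXeq : ∀ j l, j ≠ 0 → l ≠ 0 → X l = X j → l = j ∨ l = -j := fun j l hj hl h => by
    have h1 := (hX j hj).2.2.1
    rw [← h, hXa j l hj hl] at h1
    by_contra hn
    push Not at hn
    rw [if_neg (Ne.symm hn.1), if_neg (fun h2 => hn.2 (by rw [h2, neg_neg]))] at h1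
    omega
  -- the indicators
  have hreal : ∀ g, conj ((χp : G → ℂ) g) = (χp : G → ℂ) g := by
    intro g
    have h1 : charDegree ((⟨_, IsIrr.conj χp.2⟩ : IrrCharacter G) : G → ℂ) = p := by
      have h2 := charDeg_spec' (⟨_, IsIrr.conj χp.2⟩ : IrrCharacter G)
      change conj ((χp : G → ℂ) 1) = _ at h2
      rw [charDeg_spec', hχp, map_natCast] at h2
      exact_mod_cast h2.symm
    exact congrArg (fun θ : IrrCharacter G => (θ : G → ℂ) g) (huniq _ h1)
  set ν : IrrCharacter G → ℂ := fun χ => FS.ind (χ : G → ℂ) with hν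
  set F : ZMod e → ℂ := fun j => if j = 0 then 0 else ν (X j) - ν χp with hF
  have htwo : ∀ i : ZMod e, ∃! k : ZMod e, k + k = i := by
    intro i
    have hu : IsUnit (2 : ZMod e) := by
      rw [show (2 : ZMod e) = ((2 : ℕ) : ZMod e) by norm_num]
      exact (ZMod.isUnit_iff_coprime 2 e).2 (Nat.coprime_two_left.2 hodd)
    obtain ⟨w, hw⟩ := hu
    refine ⟨(w⁻¹ : (ZMod e)ˣ) * i, ?_, fun k hk => ?_⟩
    · show (w⁻¹ : (ZMod e)ˣ) * i + (w⁻¹ : (ZMod e)ˣ) * i = i
      rw [← two_mul, ← hw, ← mul_assoc, Units.mul_inv, one_mul]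
    · change k + k = i at hk
      rw [← hk, ← two_mul, ← hw, ← mul_assoc, Units.inv_mul, one_mul]
  have hFS : ∀ i, i ≠ 0 → ∑ j, F j * ψ (-(i * j)) = 0 := by
    intro i hi
    have h := sum_ind (gp i)
    have hcnt : Nat.card {y : G // y * y = gp i} = 1 := by
      obtain ⟨k, hk, hku⟩ := htwo i
      haveI : Subsingleton {y : G // y * y = gp i} := by
        refine ⟨fun y y' => Subtype.ext ?_⟩
        have key : ∀ y : {y : G // y * y = gp i}, (y : G) = gp k := by
          intro y
          have hy : (y : G) ∈ E := by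
            rw [← hcent _ (gp_mem i) (gp_ne i hi), Subgroup.mem_centralizer_singleton_iff]
            have hc : (y : G) * ((y : G) * y) = (y : G) * y * y := (mul_assoc _ _ _).symm
            simp only [y.2] at hc
            exact hc
          obtain ⟨m, hm⟩ := gp_surj _ hy
          rw [← hm, hku m (gp_inj (by rw [gp_add, hm, y.2]))]
        rw [key y, key y']
      haveI : Nonempty {y : G // y * y = gp i} := ⟨⟨gp k, by rw [← gp_add, hk]⟩⟩
      exact Nat.card_of_subsingleton (Classical.arbitrary _) 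
    rw [hcnt, Nat.cast_one, ← Finset.add_sum_erase _ _ (Finset.mem_univ χp),
      ← Finset.add_sum_erase _ _ (Finset.mem_erase.2 ⟨hτp, Finset.mem_univ _⟩), ← hR] at h
    have hψ1 : ∑ j ∈ Finset.univ.erase (0 : ZMod e), ψ (-(i * j)) = -1 := by
      rw [Finset.sum_erase_eq_sub (Finset.mem_univ _), hsum', if_neg hi, mul_zero, neg_zero,
        AddChar.map_zero_eq_one, zero_sub]
    have hsumj : ∀ (χ : IrrCharacter G), (χ : G → ℂ) (gp i) =
        -∑ j ∈ Finset.univ.erase (0 : ZMod e), (a χ j : ℂ) * ψ (-(i * j)) := fun χ => by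
      rw [hval χ i hi, Finset.sum_erase _ (by rw [ha0, Int.cast_zero, zero_mul])]
    have hvp : (χp : G → ℂ) (gp i) = 1 := by
      rw [hsumj, Finset.sum_congr rfl (g := fun j => ψ (-(i * j))) fun j hj => by
        rw [hp1 j (Finset.ne_of_mem_erase hj), Int.cast_one, one_mul], hψ1, neg_neg]
    have hvR : ∑ χ ∈ R, ν χ * (χ : G → ℂ) (gp i) =
        ∑ j ∈ Finset.univ.erase (0 : ZMod e), ν (X j) * ψ (-(i * j)) := by
      simp only [hsumj, mul_neg, Finset.mul_sum, Finset.sum_neg_distrib]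
      rw [Finset.sum_comm, ← Finset.sum_neg_distrib]
      refine Finset.sum_congr rfl fun j hj => ?_
      obtain ⟨hXR, hXu, hX1, -⟩ := hX j (Finset.ne_of_mem_erase hj)
      rw [Finset.sum_eq_single (X j) (fun χ' hχ' hne' => by
        rw [show a χ' j = 0 from by_contra fun h => hne' (hXu χ' hχ' h)]; simp)
        (fun h => absurd hXR h), hX1]
      push_cast
      ring
    have hτv : ν (trivialIrr G) * ((trivialIrr G : IrrCharacter G) : G → ℂ) (gp i) = 1 := by
      show FS.ind (fun _ : G => (1 : ℂ)) * 1 = 1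
      rw [FS.ind_one, one_mul]
    simp only [hν] at hτv hvR
    rw [hτv, hvp, mul_one, hvR] at h
    rw [← Finset.sum_erase (a := (0 : ZMod e)) _ (by simp [hF]),
      Finset.sum_congr rfl (g := fun j => ν (X j) * ψ (-(i * j)) - ν χp * ψ (-(i * j))) fun j hj => by
        simp only [hF, if_neg (Finset.ne_of_mem_erase hj)]; ring,
      Finset.sum_sub_distrib, ← Finset.mul_sum, hψ1]
    simp only [hν]
    linear_combination h
  have hFl : ∀ l, (e : ℂ) * F l = ∑ j, F j := by
    intro l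
    have h1 : ∑ i, ψ (i * l) * ∑ j, F j * ψ (-(i * j)) = ∑ j, F j := by
      rw [Finset.sum_eq_single 0 (fun i _ hi => by rw [hFS i hi, mul_zero])
        (fun h => absurd (Finset.mem_univ _) h)]
      simp
    rw [← h1]
    simp only [Finset.mul_sum]
    rw [Finset.sum_comm, Finset.sum_congr rfl (g := fun j => F j * if l - j = 0 then (e : ℂ) else 0)
      fun j _ => by
        rw [← hsum, Finset.mul_sum]
        refine Finset.sum_congr rfl fun i _ => ?_
        rw [mul_left_comm, ← AddChar.map_add_eq_mul]; ring_nf]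
    simp [sub_eq_zero, mul_comm]
  have hF0 : ∑ j, F j = 0 := by
    rw [← hFl 0]
    simp [hF]
  have hνX : ∀ j, j ≠ 0 → ν (X j) = ν χp := fun j hj => by
    have h := hFl j
    rw [hF0] at h
    have := (mul_eq_zero.1 h).resolve_left heC
    simp only [hF, if_neg hj] at this
    exact sub_eq_zero.1 this
  refine ⟨(Finset.univ.erase (0 : ZMod e)).image X, ?_, fun χ hχ => ?_,
    (FS.ind_eq χp).elim (fun h => absurd hreal h.2) (fun h => h.1), fun h => ?_,
    fun h => ?_⟩
  · have h1 := Finset.card_eq_sum_card_image X (Finset.univ.erase (0 : ZMod e))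
    rw [Finset.sum_congr rfl (g := fun _ => 2) fun χ hχ => ?_, Finset.sum_const,
      Finset.card_erase_of_mem (Finset.mem_univ _), Finset.card_univ, ZMod.card, smul_eq_mul] at h1
    · omega
    obtain ⟨j, hj, rfl⟩ := Finset.mem_image.1 hχ
    rw [Finset.mem_erase] at hj
    refine Finset.card_eq_two.2 ⟨j, -j, (hne j hj.1).symm, ?_⟩
    ext l
    simp only [Finset.mem_filter, Finset.mem_erase, Finset.mem_univ, and_true, Finset.mem_insert,
      Finset.mem_singleton]
    refine ⟨fun hl => hXeq j l hj.1 hl.1 hl.2, fun hl => ?_⟩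
    rcases hl with rfl | rfl
    · exact ⟨hj.1, rfl⟩
    · exact ⟨neg_ne_zero.2 hj.1, hXneg j hj.1⟩
  · obtain ⟨j, hj, rfl⟩ := Finset.mem_image.1 hχ
    rw [Finset.mem_erase] at hj
    exact ⟨(hX j hj.1).2.2.2, hνX j hj.1⟩
  · obtain ⟨j, hj, h⟩ := Finset.mem_image.1 h
    have := (hX j (Finset.ne_of_mem_erase hj)).1
    rw [h, hR] at this
    exact Finset.ne_of_mem_erase (Finset.mem_of_mem_erase this) rfl
  · obtain ⟨j, hj, h⟩ := Finset.mem_image.1 h
    have := (hX j (Finset.ne_of_mem_erase hj)).1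
    rw [h, hR] at this
    exact Finset.ne_of_mem_erase this rfl

end Cfsg.Agent.Block.UniqueDegP
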