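import Mathlib
import Cfsg.Agent.Lib.Char.SelfCentChars
import Cfsg.Agent.Lib.Char.DefectOneFamilies
import Cfsg.Agent.Lib.Block.UniqueDegP.ESide

/-!
An element of prime order `p` equal to its centralizer with an odd index in its normalizer: the
exceptional characters are not real, and, given enough real characters of degree `p + 1`, all
characters nonzero at the element are real on the regular elements.
-/

set_option autoImplicit false
set_option linter.style.haveILetI false
set_option linter.unusedSectionVars false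

namespace Cfsg.Agent.Block.UniqueDegP

open Cfsg Cfsg.Agent.Char Cfsg.Agent.Char.DefectOne
open scoped ComplexConjugate

universe u

variable {G : Type u} [Group G] [Fintype G] {p : ℕ} [hp : Fact p.Prime] {x : G}

/-- Singular elements have order `p`. -/
theorem sing_ord (h : SCP.Hyp p x) {g : G} (hg : p ∣ orderOf g) : orderOf g = p := by
  set u := g ^ (orderOf g / p) with hu
  have huo : orderOf u = p := orderOf_pow_orderOf_div (orderOf_pos g).ne' hg
  have h' := SCP.hyp_of_ord h huo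
  exact SCP.orderOf_of_mem h' (SCP.mem_P_of_comm h' ((Commute.refl g).pow_right _).eq)
    fun e => by rw [e, orderOf_one] at hg; exact hp.out.not_dvd_one hg

/-- The index in the normalizer is the same at all elements of order `p`. -/
theorem e_eq (h : SCP.Hyp p x) {g : G} (hg : orderOf g = p) : SCP.e g = SCP.e x := by
  have h2 := SCP.classes_mul_e h
  have h3 := SCP.classes_mul_e (SCP.hyp_of_ord h hg)
  rw [← h2] at h3
  refine Nat.eq_of_mul_eq_mul_left (Nat.pos_of_ne_zero fun h4 => ?_) h3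
  rw [h4, zero_mul] at h2
  have := hp.out.two_le
  omega

/-- An element of order `p` is not conjugate to its inverse when the index is odd. -/
theorem not_conj_inv (h : SCP.Hyp p x) (hp2 : p ≠ 2) (hodd : Odd (SCP.e x)) {g : G}
    (hg : orderOf g = p) : ¬ IsConj g⁻¹ g := by
  intro hc
  have h' := SCP.hyp_of_ord h hg
  obtain ⟨c, hc⟩ := isConj_iff.1 hc.symm
  have hgP : g ∈ SCP.P g := Subgroup.mem_zpowers g
  have hg1 := SCP.ne_one h'
  have hcN : c ∈ SCP.N g :=
    SCP.mem_N_of_conj h' hgP hg1 (by rw [hc]; exact inv_mem hgP)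
  haveI : ((SCP.P g).subgroupOf (SCP.N g)).Normal :=
    (Subgroup.normal_subgroupOf_iff_le_normalizer Subgroup.le_normalizer).2 le_rfl
  set q : SCP.N g ⧸ (SCP.P g).subgroupOf (SCP.N g) := QuotientGroup.mk ⟨c, hcN⟩ with hq
  have hq1 : q ≠ 1 := by
    intro e
    have h1 := Subgroup.mem_subgroupOf.1 ((QuotientGroup.eq_one_iff _).1 e)
    have h2 : c * g = g * c := by
      have := (Subgroup.mem_zpowers_iff.1 (h1 : c ∈ SCP.P g))
      obtain ⟨i, rfl⟩ := this
      exact ((Commute.refl g).zpow_left i).eq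
    rw [h2, mul_inv_cancel_right] at hc
    have h3 : g ^ 2 = 1 := by rw [pow_two]; exact eq_inv_iff_mul_eq_one.1 hc
    have h4 := orderOf_dvd_of_pow_eq_one h3
    rw [hg] at h4
    exact hp2 ((Nat.prime_dvd_prime_iff_eq hp.out Nat.prime_two).1 h4)
  have hq2 : q ^ 2 = 1 := by
    rw [hq, pow_two, ← QuotientGroup.mk_mul, QuotientGroup.eq_one_iff, Subgroup.mem_subgroupOf]
    refine SCP.mem_P_of_comm h' ?_
    have e1 : c * (c * g * c⁻¹) * c⁻¹ = g := by
      rw [hc, show c * g⁻¹ * c⁻¹ = (c * g * c⁻¹)⁻¹ by group, hc, inv_inv]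
    calc c * c * g = c * (c * g * c⁻¹) * c⁻¹ * (c * c) := by group
      _ = g * (c * c) := by rw [e1]
  have h5 : orderOf q = 2 := orderOf_eq_prime hq2 hq1
  have h6 := orderOf_dvd_natCard q
  rw [h5, ← Subgroup.index_eq_card] at h6
  have h7 : SCP.e g = ((SCP.P g).subgroupOf (SCP.N g)).index := rfl
  rw [← h7, e_eq h hg] at h6
  exact hodd.not_two_dvd_nat h6

/-- The number of singular elements. -/
theorem card_sing (h : SCP.Hyp p x) :
    (Finset.univ.filter fun g : G => p ∣ orderOf g).card = (SCP.N x).index * (p - 1) := by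
  classical
  rw [SCP.N_index_eq h, Finset.card_eq_sum_card_fiberwise (f := fun g : G => Subgroup.zpowers g)
    (t := Finset.univ.filter fun H : Subgroup G => Nat.card H = p)]
  · rw [Finset.sum_congr rfl (g := fun _ => p - 1) fun H hH => ?_, Finset.sum_const, smul_eq_mul,
      Nat.card_eq_fintype_card, Fintype.card_subtype]
    rw [Finset.mem_filter] at hH
    rw [show p - 1 = ((Finset.univ.filter fun g : G => g ∈ H).erase 1).card by
        rw [Finset.card_erase_of_mem (by simp), ← Fintype.card_subtype, ← Nat.card_eq_fintype_card,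
          hH.2]]
    congr 1
    ext g
    simp only [Finset.mem_filter, Finset.mem_univ, true_and, Finset.mem_erase]
    constructor
    · rintro ⟨hg, rfl⟩
      exact ⟨fun e => hp.out.not_dvd_one (by rwa [e, orderOf_one] at hg), Subgroup.mem_zpowers g⟩
    · rintro ⟨hg1, hgH⟩
      have h1 : orderOf g = p := ((Nat.dvd_prime hp.out).1
        (hH.2 ▸ H.orderOf_dvd_natCard hgH)).resolve_left fun e => hg1 (orderOf_eq_one_iff.1 e)
      exact ⟨h1 ▸ dvd_rfl, Subgroup.eq_of_le_of_card_ge (Subgroup.zpowers_le.2 hgH)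
        (by rw [Nat.card_zpowers, h1, hH.2])⟩
  · intro g hg
    simp only [Finset.coe_filter, Set.mem_ofPred_eq, Finset.mem_univ, true_and] at hg ⊢
    rw [Nat.card_zpowers, sing_ord h hg]

theorem not_dvd_card_sing (h : SCP.Hyp p x) :
    ¬ p ∣ (Finset.univ.filter fun g : G => p ∣ orderOf g).card := by
  rw [card_sing h]
  intro hd
  rcases hp.out.dvd_mul.1 hd with h1 | h1
  · exact SCP.not_dvd_index h (h1.trans (Subgroup.index_dvd_of_le Subgroup.le_normalizer))
  · have h2 := hp.out.two_le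
    have := Nat.le_of_dvd (by omega) h1
    omega

/-- The exceptional characters are not real. -/
theorem not_real (h : SCP.Hyp p x) (hp2 : p ≠ 2) (hodd : Odd (SCP.e x))
    {X Y : Finset (IrrCharacter G)} {c : IrrCharacter G → ℤ} {ε : ℤ}
    (H : SCP.Chars p (SCP.e x) X Y c ε) {χ : IrrCharacter G} (hχ : χ ∈ Y) :
    ¬ ∀ g, conj ((χ : G → ℂ) g) = (χ : G → ℂ) g := by
  classical
  have hp' := hp.out
  obtain ⟨σ, hσ, hσψ⟩ := exists_sigma (G := G) (SCP.fac h) (-1)
  have hreg : ∀ (ψ : IrrCharacter G) g, ¬ p ∣ orderOf g → σ ((ψ : G → ℂ) g) = (ψ : G → ℂ) g :=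
    fun ψ g hg => hσ.regular (irr_isChar ψ) hg
  have hsing : ∀ (ψ : IrrCharacter G) g, p ∣ orderOf g →
      σ ((ψ : G → ℂ) g) = conj ((ψ : G → ℂ) g) := by
    intro ψ g hg
    obtain ⟨d, ρ, -, hρ⟩ := ψ.2
    obtain ⟨b, cs, -, hcr, hk⟩ := exists_rep_eigenbasis ρ g
    rw [← hρ, show g = g ^ 1 from (pow_one g).symm, hk 1, map_sum, map_sum]
    refine Finset.sum_congr rfl fun i _ => ?_
    obtain ⟨j, hj⟩ := exists_ψc (p := p) (z := cs i) (by rw [← sing_ord h hg]; exact hcr i)
    rw [pow_one, hj, hσψ, ψc_conj, Units.val_neg, Units.val_one, neg_one_mul]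
  by_contra hreal
  -- the moved characters
  have hinner : ∑ ψ : IrrCharacter G,
      (classInner (ψ : G → ℂ) (ψ : G → ℂ) - classInner (twist σ ψ : G → ℂ) (ψ : G → ℂ)) =
      (Nat.card G : ℂ)⁻¹ * ((Finset.univ.filter fun g : G => p ∣ orderOf g).card * p) := by
    simp only [classInner, ← mul_sub, ← Finset.mul_sum, ← Finset.sum_sub_distrib, twist_apply,
      ← sub_mul]
    congr 1
    rw [Finset.sum_comm, Finset.card_eq_sum_ones, Nat.cast_sum, Finset.sum_mul,
      Finset.sum_filter]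
    refine Finset.sum_congr rfl fun g _ => ?_
    split_ifs with hg
    · have h1 := sum_irr_mul_conj g g
      rw [if_pos (IsConj.refl g), (SCP.hyp_of_ord h (sing_ord h hg)).cent, Nat.card_zpowers,
        sing_ord h hg] at h1
      have h2 := sum_irr_mul_conj g⁻¹ g
      rw [if_neg (not_conj_inv h hp2 hodd (sing_ord h hg))] at h2
      simp only [sub_mul, Finset.sum_sub_distrib, hsing _ _ hg, h1]
      rw [Finset.sum_congr rfl (g := fun ψ : IrrCharacter G =>
        (ψ : G → ℂ) g⁻¹ * conj ((ψ : G → ℂ) g)) fun ψ _ => by rw [irr_apply_inv], h2]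
      simp
    · exact Finset.sum_eq_zero fun ψ _ => by rw [hreg _ _ hg, sub_self, zero_mul]
  rw [Finset.sum_congr rfl (g := fun ψ : IrrCharacter G => if twist σ ψ = ψ then (0 : ℂ) else 1)
    fun ψ _ => by
      rw [classInner_self_irr ψ.2]
      split_ifs with h1
      · rw [h1, classInner_self_irr ψ.2, sub_self]
      · rw [classInner_irr_ne (twist σ ψ).2 ψ.2 fun e => h1 (Subtype.ext e), sub_zero]] at hinner
  rw [Finset.sum_ite, Finset.sum_const_zero, zero_add, Finset.sum_const, nsmul_one, card_sing h,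
    eq_inv_mul_iff_mul_eq₀ (Nat.cast_ne_zero.2 Nat.card_pos.ne')] at hinner
  have hcG : Nat.card G = p * SCP.e x * (SCP.N x).index := by
    rw [← SCP.card_N h, Subgroup.card_mul_index]
  have hfix : ∀ ψ ∉ Y.erase χ, twist σ ψ = ψ := by
    intro ψ hψ
    refine Subtype.ext (funext fun g => ?_)
    rw [twist_apply]
    by_cases hg : p ∣ orderOf g
    swap
    · exact hreg ψ g hg
    by_cases hψ' : ψ = χ
    · rw [hψ', hsing _ _ hg, hreal]
    have hψY : ψ ∉ Y := fun h1 => hψ (Finset.mem_erase.2 ⟨hψ', h1⟩)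
    by_cases hψX : ψ ∈ X
    · rw [H.value ψ hψX g (sing_ord h hg), map_neg, map_intCast]
    · rw [H.vanish ψ (fun h1 => (Finset.mem_union.1 h1).elim hψX hψY) g (sing_ord h hg), map_zero]
  have hle : (Finset.univ.filter fun ψ : IrrCharacter G => ¬ twist σ ψ = ψ).card ≤
      (Y.erase χ).card :=
    Finset.card_le_card fun ψ hψ => by_contra fun h1 => (Finset.mem_filter.1 hψ).2 (hfix ψ h1)
  rw [Finset.card_erase_of_mem hχ] at hle
  have h8 : Nat.card G * (Finset.univ.filter fun ψ : IrrCharacter G => ¬ twist σ ψ = ψ).card =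
      (SCP.N x).index * (p - 1) * p := by exact_mod_cast hinner
  rw [hcG, show (SCP.N x).index * (p - 1) * p = p * (p - 1) * (SCP.N x).index by ring,
    show p * SCP.e x * (SCP.N x).index *
      (Finset.univ.filter fun ψ : IrrCharacter G => ¬ twist σ ψ = ψ).card =
      p * ((Finset.univ.filter fun ψ : IrrCharacter G => ¬ twist σ ψ = ψ).card * SCP.e x) *
        (SCP.N x).index by ring] at h8
  have h9 := Nat.eq_of_mul_eq_mul_left hp'.pos (Nat.eq_of_mul_eq_mul_right
    (Nat.pos_of_ne_zero Subgroup.index_ne_zero_of_finite) h8)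
  rw [← H.card_Y] at h9
  have h10 := Nat.eq_of_mul_eq_mul_right hodd.pos h9
  have h11 : 0 < Y.card := Finset.card_pos.2 ⟨χ, hχ⟩
  omega

/-- What is needed at the prime. -/
structure PData (p e : ℕ) (G : Type u) [Group G] [Fintype G] where
  X : Finset (IrrCharacter G)
  Y : Finset (IrrCharacter G)
  F : Finset (IrrCharacter G)
  c : IrrCharacter G → ℤ
  ε : ℤ
  chars : SCP.Chars p e X Y c ε
  sing : ∀ g : G, p ∣ orderOf g → orderOf g = p
  num : ¬ p ∣ (Finset.univ.filter fun g : G => p ∣ orderOf g).card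
  exists_sing : ∃ g : G, orderOf g = p
  F_le : F ⊆ X
  F_card : 2 * F.card + 1 = e
  off : (open _root_.Classical in ∑ χ ∈ X \ F, charDegree (χ : G → ℂ)) = 1 + F.card * (p + 1)
  off_c : ∀ χ ∈ X, χ ∉ F → c χ = -1
  real : ∀ χ : IrrCharacter G, χ ∈ X ∨ χ ∈ Y → ∀ g : G, ¬ p ∣ orderOf g →
    (χ : G → ℂ) g⁻¹ = (χ : G → ℂ) g
  Y_ne : Y.Nonempty

theorem pside (h : SCP.Hyp p x) (h5 : 5 ≤ p) (hodd : Odd (SCP.e x)) (h3 : 3 ≤ SCP.e x)
    (χp : IrrCharacter G) (hχp : charDegree (χp : G → ℂ) = p) (S : Finset (IrrCharacter G))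
    (hS : 2 * S.card + 1 = SCP.e x)
    (hSd : ∀ χ ∈ S, charDegree (χ : G → ℂ) = p + 1 ∧
      FS.ind (χ : G → ℂ) = FS.ind (χp : G → ℂ))
    (hpv : FS.ind (χp : G → ℂ) = 1 ∨ FS.ind (χp : G → ℂ) = -1)
    (hτS : trivialIrr G ∉ S) : Nonempty (PData p (SCP.e x) G) := by
  classical
  obtain ⟨e, he⟩ : ∃ e, SCP.e x = e := ⟨_, rfl⟩
  have hediv : e ∣ p - 1 := he ▸ SCP.e_dvd h
  obtain ⟨X, Y, c, ε, H⟩ := SCP.exists_chars h
  have he1 : e + 1 < p := by
    rcases Nat.lt_or_ge (e + 1) p with h1 | h1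
    · exact h1
    · have h2 := Nat.le_of_dvd (by omega) hediv
      have h4 : Odd (p - 1) := by rw [show p - 1 = e by omega, ← he]; exact hodd
      have h5 : Odd p := hp.out.odd_of_ne_two (by omega)
      obtain ⟨a, ha⟩ := h4
      obtain ⟨b, hb⟩ := h5
      omega
  have hnotY : ∀ χ : IrrCharacter G, (charDegree (χ : G → ℂ) : ℤ) ≡ 1 [ZMOD p] ∨
      (charDegree (χ : G → ℂ) : ℤ) ≡ 0 [ZMOD p] → χ ∉ Y := by
    intro χ hχ hY
    have h1 := H.deg_Y χ hY
    rw [he] at h1
    have key : ∀ z : ℤ, z ≡ ε * e [ZMOD p] → z = 1 ∨ z = 0 → False := by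
      intro z hz hz'
      rw [Int.modEq_iff_dvd] at hz
      rcases H.ε_sign with hε | hε <;> rw [hε] at hz
      · rcases hz' with rfl | rfl <;>
          · have := Int.le_of_dvd (by omega) hz
            omega
      · rw [← dvd_neg] at hz
        rcases hz' with rfl | rfl <;>
          · have := Int.le_of_dvd (by omega) hz
            omega
    rcases hχ with hχ | hχ
    · exact key 1 (hχ.symm.trans h1) (Or.inl rfl)
    · exact key 0 (hχ.symm.trans h1) (Or.inr rfl)
  have hone : ∀ χ : IrrCharacter G, (charDegree (χ : G → ℂ) : ℤ) ≡ 1 [ZMOD p] → χ ∈ X ∧ c χ = -1 := by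
    intro χ hχ
    have hY := hnotY χ (Or.inl hχ)
    have hX : χ ∈ X := by
      by_contra hX
      have h1 := H.dvd_deg χ (fun h1 => (Finset.mem_union.1 h1).elim hX hY)
      have h2 : (1 : ℤ) ≡ 0 [ZMOD p] :=
        hχ.symm.trans (Int.modEq_zero_iff_dvd.2 (Int.natCast_dvd_natCast.2 h1))
      have := Int.le_of_dvd (by norm_num) (Int.modEq_zero_iff_dvd.1 h2)
      omega
    refine ⟨hX, (H.c_sign χ hX).resolve_left fun hc => ?_⟩
    have h1 := (H.deg_X χ hX).symm.trans hχ
    rw [hc, Int.modEq_iff_dvd] at h1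
    have := Int.le_of_dvd (by norm_num) h1
    omega
  set τ := trivialIrr G with hτ
  have hτd : charDegree (τ : G → ℂ) = 1 :=
    Nat.cast_injective (R := ℂ) ((charDeg_spec' τ).symm.trans Nat.cast_one.symm)
  have hτX := hone τ (by rw [hτd]; rfl)
  have hSX : ∀ χ ∈ S, χ ∈ X ∧ c χ = -1 := fun χ hχ => hone χ (by
    rw [(hSd χ hχ).1, Int.modEq_iff_dvd]
    exact ⟨-1, by push_cast; ring⟩)
  set F := X \ insert τ S with hF
  have hins : insert τ S ⊆ X := Finset.insert_subset hτX.1 fun χ hχ => (hSX χ hχ).1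
  have hXF : X \ F = insert τ S := Finset.sdiff_sdiff_eq_self hins
  have hFc : F.card = S.card := by
    have h1 := Finset.card_sdiff_add_card_eq_card hins
    rw [H.card_X, he, Finset.card_insert_of_notMem hτS] at h1
    rw [← hF] at h1
    omega
  -- the indicators at `x`
  have hcount : Nat.card {y : G // y * y = x} = 1 := by
    obtain ⟨k, hk⟩ : Odd p := hp.out.odd_of_ne_two (by omega)
    have hxp : x ^ p = 1 := by rw [← h.ord, pow_orderOf_eq_one]
    haveI : Subsingleton {y : G // y * y = x} := by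
      refine ⟨fun y y' => Subtype.ext ?_⟩
      have key : ∀ y : {y : G // y * y = x}, (y : G) = x ^ (k + 1) := by
        intro y
        have hc : (y : G) * ((y : G) * y) = (y : G) * y * y := (mul_assoc _ _ _).symm
        simp only [y.2] at hc
        have h1 : (y : G) ^ p = 1 := by
          have := (SCP.P x).orderOf_dvd_natCard (SCP.mem_P_of_comm h hc)
          rw [SCP.card_P h] at this
          exact orderOf_dvd_iff_pow_eq_one.1 this
        conv_rhs => rw [← y.2, ← pow_two, ← pow_mul,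
          show 2 * (k + 1) = p + 1 by omega, pow_succ, h1, one_mul]
      rw [key y, key y']
    haveI : Nonempty {y : G // y * y = x} := ⟨⟨x ^ (k + 1), by
      rw [← pow_add, show k + 1 + (k + 1) = p + 1 by omega, pow_succ, hxp, one_mul]⟩⟩
    exact Nat.card_of_subsingleton (Classical.arbitrary _)
  have hsum := sum_ind x
  rw [hcount, Nat.cast_one, ← Finset.sum_sdiff (Finset.subset_univ X),
    Finset.sum_eq_zero (s := Finset.univ \ X) (fun χ hχ => ?_), zero_add,
    ← Finset.sum_sdiff (Finset.sdiff_subset (s := X) (t := insert τ S)), ← hF, hXF,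
    Finset.sum_insert hτS] at hsum
  swap
  · by_cases hY : χ ∈ Y
    · rcases FS.ind_eq χ with ⟨h0, -⟩ | ⟨-, hr⟩
      · rw [h0, zero_mul]
      · exact absurd hr (not_real h (by omega) hodd H hY)
    · rw [H.vanish χ (fun h1 => (Finset.mem_union.1 h1).elim (Finset.mem_sdiff.1 hχ).2 hY) x h.ord,
        mul_zero]
  rw [Finset.sum_congr rfl (s₁ := S) (g := fun _ => FS.ind (χp : G → ℂ)) fun χ hχ => ?_,
    Finset.sum_const, nsmul_eq_mul] at hsum
  swap
  · rw [(hSd χ hχ).2, H.value χ (hSX χ hχ).1 x h.ord, (hSX χ hχ).2]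
    simp
  have hτ1 : FS.ind (τ : G → ℂ) * (τ : G → ℂ) x = 1 := by
    show FS.ind (fun _ : G => (1 : ℂ)) * 1 = 1
    rw [FS.ind_one, one_mul]
  rw [hτ1] at hsum
  have hint : ∀ χ : IrrCharacter G, ∃ z : ℤ, FS.ind (χ : G → ℂ) = z ∧ |z| ≤ 1 ∧
      (z ≠ 0 → ∀ g, conj ((χ : G → ℂ) g) = (χ : G → ℂ) g) := by
    intro χ
    rcases FS.ind_eq χ with ⟨h0, -⟩ | ⟨h1 | h1, hr⟩
    · exact ⟨0, by simp [h0], by simp, fun hz => absurd rfl hz⟩
    · exact ⟨1, by simp [h1], by simp, fun _ => hr⟩
    · exact ⟨-1, by simp [h1], by simp, fun _ => hr⟩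
  choose ν hν hνb hνr using hint
  have hFreal : ∀ χ ∈ F, ν χ ≠ 0 := by
    have hsum' : ∑ χ ∈ F, ν χ * -c χ = -((S.card : ℤ) * ν χp) := by
      refine Int.cast_injective (α := ℂ) ?_
      push_cast
      rw [Finset.sum_congr rfl (s₁ := F) (g := fun χ : IrrCharacter G => (ν χ : ℂ) * -(c χ : ℂ))
        fun χ hχ => by rw [hν, H.value χ (Finset.mem_sdiff.1 hχ).1 x h.ord], hν χp] at hsum
      linear_combination hsum
    have habs : |∑ χ ∈ F, ν χ * -c χ| = (S.card : ℤ) := by
      rw [hsum', abs_neg, abs_mul, Nat.abs_cast]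
      have : |ν χp| = 1 := by
        rcases hpv with h1 | h1 <;> rw [hν] at h1
        · rw [show ν χp = 1 by exact_mod_cast h1]; rfl
        · rw [show ν χp = -1 by exact_mod_cast h1]; rfl
      rw [this, mul_one]
    intro χ hχ h0
    have h1 := Finset.abs_sum_le_sum_abs (fun χ => ν χ * -c χ) F
    rw [habs, ← Finset.add_sum_erase F _ hχ, h0, zero_mul, abs_zero, zero_add] at h1
    have h2 : ∑ ψ ∈ F.erase χ, |ν ψ * -c ψ| ≤ ((F.erase χ).card : ℤ) := by
      rw [Finset.card_eq_sum_ones, Nat.cast_sum, Nat.cast_one]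
      refine Finset.sum_le_sum fun ψ hψ => ?_
      rw [abs_mul, abs_neg]
      rcases H.c_sign ψ (Finset.mem_sdiff.1 (Finset.mem_of_mem_erase hψ)).1 with hc | hc <;>
        simp [hc, hνb ψ]
    rw [Finset.card_erase_of_mem hχ] at h2
    have : 0 < F.card := Finset.card_pos.2 ⟨χ, hχ⟩
    omega
  have hrealX : ∀ χ ∈ X, ∀ g, conj ((χ : G → ℂ) g) = (χ : G → ℂ) g := by
    intro χ hχ
    by_cases hχF : χ ∈ F
    · exact hνr χ (hFreal χ hχF)
    · have h1 : χ ∈ insert τ S := hXF ▸ Finset.mem_sdiff.2 ⟨hχ, hχF⟩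
      rcases Finset.mem_insert.1 h1 with rfl | h1
      · intro g; exact map_one _
      · refine hνr χ fun h0 => ?_
        have h2 := (hSd χ h1).2
        rw [hν χ, h0, Int.cast_zero] at h2
        rcases hpv with h4 | h4 <;> rw [h4] at h2 <;> norm_num at h2
  refine ⟨{ X := X, Y := Y, F := F, c := c, ε := ε
            chars := he ▸ H
            sing := fun g hg => sing_ord h hg
            num := not_dvd_card_sing h
            exists_sing := ⟨x, h.ord⟩
            F_le := Finset.sdiff_subset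
            F_card := by rw [hFc, hS]
            off := ?_
            off_c := fun χ hχ hχF => ?_
            real := ?_
            Y_ne := ?_ }⟩
  · rw [hXF, Finset.sum_insert hτS, hτd,
      Finset.sum_congr rfl (fun χ hχ => (hSd χ hχ).1), Finset.sum_const, smul_eq_mul, hFc]
  · have h1 : χ ∈ insert τ S := hXF ▸ Finset.mem_sdiff.2 ⟨hχ, hχF⟩
    rcases Finset.mem_insert.1 h1 with rfl | h1
    · exact hτX.2
    · exact (hSX χ h1).2
  · intro χ hχ g hg
    rw [irr_apply_inv]
    rcases hχ with hχ | hχ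
    · exact hrealX χ hχ g
    · have h1 := H.regular χ hχ g hg
      have h2 := congrArg conj h1
      rw [map_add, map_mul, map_sum, map_zero, map_intCast,
        Finset.sum_congr rfl (g := fun φ : IrrCharacter G => (c φ : ℂ) * (φ : G → ℂ) g) fun φ hφ => by
          rw [map_mul, map_intCast, hrealX φ hφ g], ← h1, add_right_inj] at h2
      exact mul_left_cancel₀ (Int.cast_ne_zero.2 (by rcases H.ε_sign with h3 | h3 <;> omega)) h2
  · rw [← Finset.card_pos]
    rcases Nat.eq_zero_or_pos Y.card with h1 | h1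
    · have := H.card_Y
      rw [h1, zero_mul] at this
      omega
    · exact h1

end Cfsg.Agent.Block.UniqueDegP
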