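import Mathlib
import Cfsg.Agent.Lib.Char.Stem.Triangle
import Cfsg.Agent.Lib.Char.DecompBrauer
import Cfsg.Agent.Lib.Char.DecompBlock
import Cfsg.Agent.Lib.Block.Elementary2
import Cfsg.Agent.Lib.Block.UniqueDegP.PSide

/-!
Counting the columns of the decomposition matrix at a prime `p` dividing the order once: when all
characters nonzero at the elements of order `p` are real on the regular elements, each of them
meets at most two columns, which forces an exceptional character of degree `e`.
-/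

set_option autoImplicit false
set_option linter.style.haveILetI false
set_option linter.unusedSectionVars false

namespace Cfsg.Agent.Block.UniqueDegP

open Cfsg Cfsg.Agent.Block Cfsg.Agent.Char Cfsg.Agent.Char.Decomp Cfsg.Agent.Char.Spec
  Cfsg.Agent.Char.BP Cfsg.Agent.Char.Res
open scoped ComplexConjugate

universe u

variable {G : Type u} [Group G] [Fintype G] [DecidableEq G] {p e : ℕ} [hp : Fact p.Prime]

theorem PData.e_lt (D : PData p e G) : e < p := by
  have h1 := D.chars.card_Y
  have h2 : 0 < D.Y.card := D.Y_ne.card_pos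
  have h3 : e ≤ D.Y.card * e := Nat.le_mul_of_pos_left e h2
  have := hp.out.one_lt
  omega

/-- The degrees of the rows are prime to `p`. -/
theorem PData.not_dvd (D : PData p e G) (he : 0 < e) {χ : IrrCharacter G}
    (hχ : χ ∈ D.X ∨ χ ∈ D.Y) : ¬ p ∣ charDegree (χ : G → ℂ) := by
  intro hd
  have h0 : (charDegree (χ : G → ℂ) : ℤ) ≡ 0 [ZMOD p] :=
    Int.modEq_zero_iff_dvd.2 (Int.natCast_dvd_natCast.2 hd)
  rcases hχ with hχ | hχ
  · have h1 := h0.symm.trans (D.chars.deg_X χ hχ)
    rw [Int.modEq_iff_dvd] at h1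
    rcases D.chars.c_sign χ hχ with hc | hc <;>
      · rw [hc] at h1
        have h2 : (p : ℤ) ∣ 1 := by simpa using h1
        have := Int.le_of_dvd one_pos h2
        have := hp.out.one_lt
        omega
  · have h1 := h0.symm.trans (D.chars.deg_Y χ hχ)
    rw [Int.modEq_iff_dvd] at h1
    have h2 : (p : ℤ) ∣ (e : ℤ) := by
      rcases D.chars.ε_sign with hε | hε <;> rw [hε] at h1 <;> simpa using h1
    have := Nat.le_of_dvd he (Int.natCast_dvd_natCast.1 h2)
    have := D.e_lt
    omega

variable {M : Ideal AlgInt}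

/-- A character of degree divisible by `p` shares no column with the others. -/
theorem PData.cross_zero (D : PData p e G) (hM : IsPModular p M) (he : 0 < e)
    {i : MonoidAlgebra ℂ G} (hi : Pr M i) {φ χ : IrrCharacter G}
    (hφ : φ ∈ D.X ∨ φ ∈ D.Y) (hφi : ev (φ : G → ℂ) i ≠ 0) (hX : χ ∉ D.X) (hY : χ ∉ D.Y) :
    ev (χ : G → ℂ) i = 0 := by
  classical
  set B := blockOf M (φ : G → ℂ) with hB
  have hBb : IsPBlock M B := isPBlock_blockOf φ
  have hφB : φ ∈ B := mem_blockOf_self hM φ
  have hbi : bz B * i = i := (bz_dichotomy hM hBb hi).resolve_right fun h0 => hφi (by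
    have h1 := ev_bz (B := B) φ i
    rw [h0, if_pos hφB] at h1
    rw [← h1]
    simp [ev])
  rw [← hbi, ev_bz, if_neg]
  intro hχB
  refine regPair_unit (p := p) hM hBb hφB hχB ?_ ?_
  · rw [blockHeight, Nat.factorization_eq_zero_of_not_dvd (D.not_dvd he hφ), Nat.zero_sub]
  · have hz : regSum p (χ : G → ℂ) (φ : G → ℂ) = 0 := by
      rw [regSum_eq_sum, Finset.sum_subset (Finset.filter_subset _ _) fun g _ hg => by
        rw [D.chars.vanish χ (fun h => (Finset.mem_union.1 h).elim hX hY) g
          (D.sing g (by simpa using hg)), zero_mul]]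
      have h1 := Cfsg.Agent.Char.classInner_irr_ne χ.2 φ.2 fun e1 => by
        rcases hφ with h | h
        · exact hX (Subtype.ext e1 ▸ h)
        · exact hY (Subtype.ext e1 ▸ h)
      rw [classInner, mul_eq_zero] at h1
      exact h1.resolve_left (inv_ne_zero (Nat.cast_ne_zero.2 Nat.card_pos.ne'))
    rw [regPair, hz, zero_div]
    exact ideal_zero hM

/-- A combination of the constant rows vanishing on the regular elements is zero. -/
theorem PData.indep_X (D : PData p e G) (a : IrrCharacter G → ℂ)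
    (h : ∀ v : G, ¬ p ∣ orderOf v → ∑ χ ∈ D.X, a χ * (χ : G → ℂ) v = 0) :
    ∀ χ ∈ D.X, a χ = 0 := by
  classical
  set K : ℂ := ∑ χ ∈ D.X, a χ * -(D.c χ : ℂ) with hK
  set N : ℕ := (Finset.univ.filter fun g : G => p ∣ orderOf g).card with hN
  have hf : ∀ v : G, ∑ χ ∈ D.X, a χ * (χ : G → ℂ) v = if p ∣ orderOf v then K else 0 := by
    intro v
    split_ifs with hv
    · exact Finset.sum_congr rfl fun χ hχ => by rw [D.chars.value χ hχ v (D.sing v hv)]
    · exact h v hv
  clear_value K
  have ha : ∀ φ ∈ D.X, a φ = (Nat.card G : ℂ)⁻¹ * (K * ((N : ℂ) * -(D.c φ : ℂ))) := by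
    intro φ hφ
    have h1 : classInner (fun v => ∑ χ ∈ D.X, a χ * (χ : G → ℂ) v) (φ : G → ℂ) = a φ := by
      rw [show (fun v => ∑ χ ∈ D.X, a χ * (χ : G → ℂ) v) = ∑ χ ∈ D.X, a χ • (χ : G → ℂ) by
        funext v; simp [Finset.sum_apply], classInner_sum_left,
        Finset.sum_eq_single φ (fun χ _ hne => by
          rw [classInner_smul_left,
            Cfsg.Agent.Char.classInner_irr_ne χ.2 φ.2 fun e1 => hne (Subtype.ext e1), mul_zero])
          (fun h' => absurd hφ h'), classInner_smul_left, classInner_self_irr φ.2, mul_one]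
    rw [← h1, classInner]
    congr 1
    simp only [hf]
    rw [hN, Finset.card_eq_sum_ones, Nat.cast_sum, Finset.sum_mul, Finset.mul_sum, Finset.sum_filter]
    refine Finset.sum_congr rfl fun g _ => ?_
    split_ifs with hg
    · rw [D.chars.value φ hφ g (D.sing g hg)]
      simp
    · rw [zero_mul]
  obtain ⟨ψ, hψ⟩ := D.Y_ne
  have h1 := h 1 (by rw [orderOf_one]; exact hp.out.not_dvd_one)
  have hr := D.chars.regular ψ hψ 1 (by rw [orderOf_one]; exact hp.out.not_dvd_one)
  rw [Finset.sum_congr rfl fun χ hχ => show a χ * (χ : G → ℂ) 1 =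
    -((Nat.card G : ℂ)⁻¹ * K * (N : ℂ)) * ((D.c χ : ℂ) * (χ : G → ℂ) 1) by rw [ha χ hχ]; ring,
    ← Finset.mul_sum, eq_neg_of_add_eq_zero_left hr, mul_eq_zero, neg_eq_zero, mul_eq_zero,
    mul_eq_zero, neg_eq_zero, mul_eq_zero] at h1
  have hn : (N : ℂ) ≠ 0 := Nat.cast_ne_zero.2 fun h0 => D.num (by rw [← hN, h0]; exact dvd_zero p)
  have hK0 : K = 0 := by
    rcases h1 with ((h2 | h2) | h2) | h2 | h2
    · exact absurd h2 (inv_ne_zero (Nat.cast_ne_zero.2 Nat.card_pos.ne'))
    · exact h2
    · exact absurd h2 hn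
    · rcases D.chars.ε_sign with h3 | h3 <;> rw [h3] at h2 <;> norm_num at h2
    · exact absurd h2 (irr_one_ne_zero ψ)
  intro φ hφ
  rw [ha φ hφ, hK0, zero_mul, mul_zero]

/-- The exceptional degree. -/
theorem PData.exists_deg_e (D : PData p e G) (hM : IsPModular p M) (he3 : 3 ≤ e)
    (hfac : (Nat.card G).factorization p = 1) :
    ∃ ψ ∈ D.Y, charDegree (ψ : G → ℂ) = e := by
  classical
  obtain ⟨C⟩ := exists_classes (G := G) (p := p) hM
  have he : 0 < e := by omega
  choose d hd using fun (χ : IrrCharacter G) (c : Fin C.n) =>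
    Spec.ev_idem_nat (irr_isChar χ) (C.pr c).idem
  set C1 := Finset.univ.filter fun c : Fin C.n => ∃ χ ∈ D.X, d χ c ≠ 0 with hC1
  -- many columns
  have hmany : e ≤ C1.card := by
    let L : (D.X → ℂ) →ₗ[ℂ] (C1 → ℂ) :=
      Matrix.mulVecLin (Matrix.of fun (c : C1) (χ : D.X) => (d χ.1 c.1 : ℂ))
    have hL : Function.Injective L := by
      rw [← LinearMap.ker_eq_bot, LinearMap.ker_eq_bot']
      intro a ha
      set a' : IrrCharacter G → ℂ := fun χ => if hχ : χ ∈ D.X then a ⟨χ, hχ⟩ else 0 with ha'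
      have hcol : ∀ c, ∑ χ ∈ D.X, (d χ c : ℂ) * a' χ = 0 := by
        intro c
        by_cases hc : c ∈ C1
        · have h1 : ∑ χ : D.X, (d χ.1 c : ℂ) * a χ = 0 := congrFun ha ⟨c, hc⟩
          rw [← Finset.sum_attach, ← Finset.univ_eq_attach, ← h1]
          exact Finset.sum_congr rfl fun χ _ => by simp only [ha', dif_pos χ.2]
        · refine Finset.sum_eq_zero fun χ hχ => ?_
          rw [show d χ c = 0 from by_contra fun h0 =>
            hc (Finset.mem_filter.2 ⟨Finset.mem_univ _, χ, hχ, h0⟩), Nat.cast_zero, zero_mul]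
      have hz := D.indep_X a' fun v hv => by
        obtain ⟨φ, hφ⟩ := exists_phi_at hM C hv
        rw [Finset.sum_congr rfl fun χ _ => show a' χ * (χ : G → ℂ) v =
          ∑ c, φ c * ((d χ c : ℂ) * a' χ) by
            rw [hφ χ, Finset.mul_sum]
            exact Finset.sum_congr rfl fun c _ => by rw [hd]; ring,
          Finset.sum_comm]
        exact Finset.sum_eq_zero fun c _ => by rw [← Finset.mul_sum, hcol, mul_zero]
      funext χ
      have := hz χ.1 χ.2
      simp only [ha', dif_pos χ.2] at this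
      exact this
    have h1 := LinearMap.finrank_le_finrank_of_injective hL
    rw [Module.finrank_fintype_fun_eq_card, Module.finrank_fintype_fun_eq_card,
      Fintype.card_coe, Fintype.card_coe, D.chars.card_X] at h1
    exact h1
  -- the other rows vanish on these columns
  have hout : ∀ c ∈ C1, ∀ χ : IrrCharacter G, χ ∉ D.X → χ ∉ D.Y → ev (χ : G → ℂ) (C.i c) = 0 := by
    intro c hc χ hX hY
    obtain ⟨φ, hφX, hφ⟩ := (Finset.mem_filter.1 hc).2
    exact D.cross_zero hM he (C.pr c) (Or.inl hφX)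
      (by rw [hd]; exact Nat.cast_ne_zero.2 hφ) hX hY
  -- the antipode fixes these columns
  have hstar : ∀ c ∈ C1, Eqv M (Stem.anti (C.i c)) (C.i c) := by
    intro c hc
    obtain ⟨c', hc'⟩ := C.cover _ (Stem.anti_pr hM (C.pr c))
    have hev : ∀ χ : IrrCharacter G, ev (χ : G → ℂ) (C.i c') = ev (χ : G → ℂ) (C.i c) := by
      intro χ
      rw [← Eqv.ev_eq hM (Stem.anti_pr hM (C.pr c)) (C.pr c') hc' (irr_classFun χ), Stem.ev_anti]
      by_cases hχ : χ ∈ D.X ∨ χ ∈ D.Y
      · show ev (fun g => (χ : G → ℂ) g⁻¹) (C.i c) = _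
        refine Spec.ev_eq_of_regular hM (C.pr c).ring (C.pr c).idem (fun g t => ?_)
          (irr_classFun χ) fun g hg => D.real χ hχ g hg
        show (χ : G → ℂ) (t * g * t⁻¹)⁻¹ = (χ : G → ℂ) g⁻¹
        rw [show (t * g * t⁻¹)⁻¹ = t * g⁻¹ * t⁻¹ by group]
        exact irr_classFun χ g⁻¹ t
      · push Not at hχ
        rw [hout c hc χ hχ.1 hχ.2]
        set χ' : IrrCharacter G := ⟨_, IsIrr.conj χ.2⟩ with hχ'
        have hdeg : charDegree (χ' : G → ℂ) = charDegree (χ : G → ℂ) := by
          have h2 := charDeg_spec' χ'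
          change conj ((χ : G → ℂ) 1) = _ at h2
          rw [charDeg_spec', map_natCast] at h2
          exact_mod_cast h2.symm
        have hdvd := D.chars.dvd_deg χ fun h => (Finset.mem_union.1 h).elim hχ.1 hχ.2
        have h0 := hout c hc χ' (fun h => D.not_dvd he (Or.inl h) (hdeg ▸ hdvd))
          fun h => D.not_dvd he (Or.inr h) (hdeg ▸ hdvd)
        rw [← h0]
        exact Finset.sum_congr rfl fun g _ => by rw [irr_apply_inv]
    have hcc : c = c' := by
      by_contra hne
      have h1 := C.indep hM (z := fun k => (if k = c then (1 : ℂ) else 0) - if k = c' then 1 else 0)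
        fun χ => by
          simp only [sub_mul, Finset.sum_sub_distrib, ite_mul, one_mul, zero_mul,
            Finset.sum_ite_eq', Finset.mem_univ, if_true, hev, sub_self]
      have h2 := congrFun h1 c
      simp [hne] at h2
    exact hcc ▸ hc'
  -- at most two columns for each row
  have htwo : ∀ χ : IrrCharacter G, χ ∈ D.X ∨ χ ∈ D.Y →
      (C1.filter fun c => d χ c ≠ 0).card ≤ 2 := by
    intro χ hχ
    by_contra h
    obtain ⟨a, b, c, ha, hb, hc, hab, hac, hbc⟩ := Finset.two_lt_card_iff.1 (not_le.1 h)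
    rw [Finset.mem_filter] at ha hb hc
    let t : Fin 3 → Fin C.n := ![a, b, c]
    have ht : Function.Injective t := by
      intro i j hij
      fin_cases i <;> fin_cases j <;> simp [t] at hij ⊢ <;> first
        | exact hab hij | exact hab hij.symm | exact hac hij | exact hac hij.symm
        | exact hbc hij | exact hbc hij.symm
    refine Stem.not_three hM hfac χ (D.not_dvd he hχ)
      (fun g hg => by rw [← D.sing g hg]; exact pow_orderOf_eq_one g) ?_ (D.real χ hχ)
      (fun i => C.i (t i)) (fun i => C.pr _) (fun i j hij => C.ne _ _ fun e1 => hij (ht e1))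
      (fun i => hstar _ ?_) (fun i => ?_)
    · convert D.num
    · fin_cases i <;> simp [t, ha.1, hb.1, hc.1]
    · fin_cases i <;> simp [t, hd, ha.2, hb.2, hc.2]
  -- every column has a positive row
  obtain ⟨ψ, hψ⟩ := D.Y_ne
  set Fp := D.F.filter fun χ => D.c χ = 1 with hFp
  set R : Finset (IrrCharacter G) := if D.ε = 1 then insert ψ Fp else Fp with hR
  have hRsub : ∀ χ ∈ R, χ ∈ D.X ∨ χ ∈ D.Y := by
    intro χ hχ
    rw [hR] at hχ
    split_ifs at hχ
    · rcases Finset.mem_insert.1 hχ with rfl | h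
      · exact Or.inr hψ
      · exact Or.inl (D.F_le (Finset.mem_filter.1 h).1)
    · exact Or.inl (D.F_le (Finset.mem_filter.1 hχ).1)
  have hcover : C1 ⊆ R.biUnion fun χ => C1.filter fun c => d χ c ≠ 0 := by
    intro c hc
    by_contra hno
    have hRz : ∀ χ ∈ R, d χ c = 0 := fun χ hχ => by_contra fun h0 =>
      hno (Finset.mem_biUnion.2 ⟨χ, hχ, Finset.mem_filter.2 ⟨hc, h0⟩⟩)
    have hrel : ∑ χ ∈ D.X, D.c χ * (d χ c : ℤ) + D.ε * (d ψ c : ℤ) = 0 := by
      refine Int.cast_injective (α := ℂ) ?_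
      push_cast
      simp only [← hd]
      have h1 := Spec.ev_idem_eq_zero hM (C.pr c).ring (C.pr c).idem
        (f := (∑ χ ∈ D.X, (D.c χ : ℂ) • (χ : G → ℂ)) + (D.ε : ℂ) • (ψ : G → ℂ))
        (fun g t => by
          simp only [Pi.add_apply, Finset.sum_apply, Pi.smul_apply, irr_classFun _ g t])
        (fun g hg => by
          simpa only [Pi.add_apply, Finset.sum_apply, Pi.smul_apply, smul_eq_mul] using
            D.chars.regular ψ hψ g hg)
      rw [← h1, ← ev_sum_fun]
      simp only [ev, Pi.add_apply, mul_add, Finset.sum_add_distrib, Pi.smul_apply, smul_eq_mul,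
        Finset.mul_sum]
      congr 1
      exact Finset.sum_congr rfl fun g _ => by ring
    obtain ⟨φ, hφX, hφ⟩ := (Finset.mem_filter.1 hc).2
    have hle : ∀ χ ∈ D.X, D.c χ * (d χ c : ℤ) ≤ 0 := by
      intro χ hχ
      rcases D.chars.c_sign χ hχ with h1 | h1
      · have hχF : χ ∈ D.F := by_contra fun h2 => by
          have := D.off_c χ hχ h2
          omega
        rw [hRz χ (by
          have : χ ∈ Fp := Finset.mem_filter.2 ⟨hχF, h1⟩
          rw [hR]; split_ifs
          · exact Finset.mem_insert_of_mem this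
          · exact this)]
        simp
      · rw [h1]
        have : (0 : ℤ) ≤ (d χ c : ℤ) := Nat.cast_nonneg _
        omega
    have hlt : ∑ χ ∈ D.X, D.c χ * (d χ c : ℤ) < 0 := by
      refine lt_of_lt_of_le (Finset.sum_lt_sum hle ⟨φ, hφX, ?_⟩) (Finset.sum_const_zero.le)
      refine lt_of_le_of_ne (hle φ hφX) fun h0 => hφ ?_
      rcases D.chars.c_sign φ hφX with h1 | h1 <;> rw [h1] at h0 <;> omega
    rcases D.chars.ε_sign with hε | hε
    · rw [hRz ψ (by rw [hR, if_pos hε]; exact Finset.mem_insert_self _ _)] at hrel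
      push_cast at hrel
      rw [mul_zero, add_zero] at hrel
      omega
    · rw [hε] at hrel
      have : (0 : ℤ) ≤ (d ψ c : ℤ) := Nat.cast_nonneg _
      omega
  have hC1le : C1.card ≤ R.card * 2 :=
    (Finset.card_le_card hcover).trans
      (Finset.card_biUnion_le_card_mul _ _ _ fun χ hχ => htwo χ (hRsub χ hχ))
  have hFle : Fp.card ≤ D.F.card := Finset.card_filter_le _ _
  have hε : D.ε = 1 := by
    by_contra h
    rw [hR, if_neg h] at hC1le
    have := D.F_card
    omega
  rw [hR, if_pos hε] at hC1le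
  have hins := Finset.card_insert_le ψ Fp
  have hFall : Fp = D.F := Finset.eq_of_subset_of_card_le (Finset.filter_subset _ _) (by
    have := D.F_card
    omega)
  have hc : ∀ χ ∈ D.F, D.c χ = 1 := fun χ hχ => by
    rw [← hFall] at hχ
    exact (Finset.mem_filter.1 hχ).2
  -- the degree
  refine ⟨ψ, hψ, ?_⟩
  have hrel : ∑ χ ∈ D.X, D.c χ * (charDegree (χ : G → ℂ) : ℤ) + (charDegree (ψ : G → ℂ) : ℤ) = 0 := by
    refine Int.cast_injective (α := ℂ) ?_
    push_cast
    have h1 := D.chars.regular ψ hψ 1 (by rw [orderOf_one]; exact hp.out.not_dvd_one)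
    simp only [charDeg_spec', hε, Int.cast_one, one_mul] at h1
    exact h1
  rw [← Finset.sum_sdiff D.F_le, Finset.sum_congr rfl (s₁ := D.X \ D.F)
      (g := fun χ => -(charDegree (χ : G → ℂ) : ℤ)) fun χ hχ => by
        obtain ⟨h1, h2⟩ := Finset.mem_sdiff.1 hχ
        rw [D.off_c χ h1 h2]; ring,
    Finset.sum_congr rfl (s₁ := D.F) (g := fun χ => (charDegree (χ : G → ℂ) : ℤ)) fun χ hχ => by
      rw [hc χ hχ, one_mul],
    Finset.sum_neg_distrib, ← Nat.cast_sum, ← Nat.cast_sum, D.off] at hrel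
  have hlow : D.F.card * (p - 1) ≤ ∑ χ ∈ D.F, charDegree (χ : G → ℂ) := by
    refine (le_of_eq (smul_eq_mul _ _).symm).trans (Finset.card_nsmul_le_sum _ _ _ fun χ hχ => ?_)
    have h1 := D.chars.deg_X χ (D.F_le hχ)
    rw [hc χ hχ, Int.modEq_iff_dvd] at h1
    have h2 : (p : ℤ) ∣ (charDegree (χ : G → ℂ) : ℤ) + 1 := by
      have := dvd_neg.2 h1
      simpa [neg_sub, sub_neg_eq_add] using this
    have h3 := Int.le_of_dvd (by positivity) h2
    omega
  have h4 := D.chars.deg_Y ψ hψ
  rw [hε, one_mul, Int.modEq_iff_dvd] at h4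
  have hψle : charDegree (ψ : G → ℂ) ≤ e := by
    have h6 := D.F_card
    have h7 : D.F.card * (p + 1) = D.F.card * (p - 1) + 2 * D.F.card := by
      rw [mul_comm 2, ← mul_add]
      congr 1
      have := hp.out.one_lt
      omega
    omega
  have hψpos := Cfsg.Agent.Block.charDeg_pos ψ
  have h5 := D.e_lt
  rcases eq_or_lt_of_le hψle with h6 | h6
  · exact h6
  · have := Int.le_of_dvd (by omega) h4
    omega

end Cfsg.Agent.Block.UniqueDegP
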