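import Mathlib

/-!
A transfer parity criterion: in a non-abelian simple group no element of a Sylow 2-subgroup has all
its conjugates in that subgroup outside a subgroup of index two and all conjugates of its even
powers inside.
-/

set_option autoImplicit false
set_option linter.style.haveILetI false

namespace Cfsg.Agent.Block.UniqueDegP

universe u

variable {G : Type u} [Group G] [Finite G]

theorem parity_transfer [IsSimpleGroup G] (hna : ¬ ∀ a b : G, a * b = b * a) (T : Sylow 2 G)
    (Q : Subgroup G) (hQi : Q.relIndex (T : Subgroup G) = 2) {y : G} (hy : y ∈ (T : Subgroup G))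
    (h1 : ∀ g : G, g⁻¹ * y * g ∈ (T : Subgroup G) → g⁻¹ * y * g ∉ Q)
    (h2 : ∀ (g : G) (r : ℕ), Even r → g⁻¹ * y ^ r * g ∈ (T : Subgroup G) →
      g⁻¹ * y ^ r * g ∈ Q) : False := by
  classical
  haveI : Fact (Nat.Prime 2) := ⟨Nat.prime_two⟩
  set H : Subgroup G := (T : Subgroup G) with hH
  have hidx : (Q.subgroupOf H).index = 2 := hQi
  haveI := Subgroup.normal_of_index_eq_two hidx
  haveI : IsCyclic (H ⧸ Q.subgroupOf H) :=
    isCyclic_of_prime_card (p := 2) (by rw [← Subgroup.index_eq_card, hidx])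
  letI : CommGroup (H ⧸ Q.subgroupOf H) := IsCyclic.commGroup
  set φ := QuotientGroup.mk' (Q.subgroupOf H) with hφ
  set σ := φ ⟨y, hy⟩ with hσ
  have hσ1 : σ ≠ 1 := fun e => h1 1 (by simpa using hy)
    (by simpa [Subgroup.mem_subgroupOf] using (QuotientGroup.eq_one_iff _).1 e)
  have htwo : ∀ v : H ⧸ Q.subgroupOf H, v ≠ 1 → v = σ := fun v hv =>
    ((Nat.card_eq_two_iff' (1 : H ⧸ Q.subgroupOf H)).1
      (by rw [← Subgroup.index_eq_card, hidx])).unique hv hσ1
  have hker : (MonoidHom.transfer φ).ker = ⊤ := by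
    refine (MonoidHom.normal_ker _).eq_bot_or_eq_top.resolve_left fun h => hna fun a b => ?_
    refine (MonoidHom.ker_eq_bot_iff _).1 h ?_
    rw [map_mul, map_mul, mul_comm]
  have h0 : MonoidHom.transfer φ y = 1 := MonoidHom.mem_ker.1 (hker.ge (Subgroup.mem_top y))
  letI := Fintype.ofFinite (Quotient (MulAction.orbitRel (Subgroup.zpowers y) (G ⧸ H)))
  rw [MonoidHom.transfer_eq_prod_quotient_orbitRel_zpowers_quot] at h0
  have hper : ∀ c : G ⧸ H, Function.minimalPeriod (y • ·) c = 1 ∨
      Even (Function.minimalPeriod (y • ·) c) := by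
    intro c
    obtain ⟨k, hk⟩ := IsPGroup.iff_orderOf.1 T.isPGroup' ⟨y, hy⟩
    rw [← Subgroup.orderOf_coe] at hk
    have hd : Function.minimalPeriod (y • ·) c ∣ 2 ^ k := by
      refine Function.IsPeriodicPt.minimalPeriod_dvd ?_
      show (y • ·)^[2 ^ k] c = c
      rw [smul_iterate_apply, ← hk, pow_orderOf_eq_one, one_smul]
    obtain ⟨j, -, hj⟩ := (Nat.dvd_prime_pow Nat.prime_two).1 hd
    rcases j.eq_zero_or_pos with rfl | hj0
    · exact Or.inl (by rw [hj, pow_zero])
    · exact Or.inr (hj ▸ (Nat.even_pow.2 ⟨even_two, by omega⟩))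
  have hval : ∀ q : Quotient (MulAction.orbitRel (Subgroup.zpowers y) (G ⧸ H)),
      φ ⟨q.out.out⁻¹ * y ^ Function.minimalPeriod (y • ·) q.out * q.out.out,
        QuotientGroup.out_conj_pow_minimalPeriod_mem H y q.out⟩ =
        if Function.minimalPeriod (y • ·) q.out = 1 then σ else 1 := by
    intro q
    have hm := QuotientGroup.out_conj_pow_minimalPeriod_mem H y q.out
    split_ifs with h
    · refine htwo _ fun e => ?_
      have h3 := Subgroup.mem_subgroupOf.1 ((QuotientGroup.eq_one_iff _).1 e)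
      simp only [h, pow_one] at h3 hm
      exact h1 _ hm h3
    · exact (QuotientGroup.eq_one_iff _).2 (Subgroup.mem_subgroupOf.2
        (h2 _ _ ((hper q.out).resolve_left h) hm))
  rw [Finset.prod_congr rfl fun q _ => hval q, Finset.prod_ite, Finset.prod_const,
    Finset.prod_const_one, mul_one] at h0
  have hodd : Odd (Finset.univ.filter fun q : Quotient (MulAction.orbitRel (Subgroup.zpowers y)
      (G ⧸ H)) => Function.minimalPeriod (y • ·) q.out = 1).card := by
    have hsum := Subgroup.index_eq_sum_minimalPeriod H y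
    have hi : ((H.index : ℕ) : ZMod 2) ≠ 0 := by
      rw [Ne, ZMod.natCast_eq_zero_iff_even, even_iff_two_dvd]
      exact T.not_dvd_index
    rw [← ZMod.natCast_ne_zero_iff_odd]
    intro hz
    apply hi
    rw [hsum, Nat.cast_sum, Finset.sum_congr rfl (g := fun q => if
      Function.minimalPeriod (y • ·) q.out = 1 then (1 : ZMod 2) else 0) fun q _ => ?_,
      Finset.sum_boole, hz]
    split_ifs with h
    · rw [h, Nat.cast_one]
    · exact ZMod.natCast_eq_zero_iff_even.2 ((hper q.out).resolve_left h)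
  have hord : orderOf σ ∣ 2 := by
    have h := orderOf_dvd_natCard σ
    rwa [← Subgroup.index_eq_card, hidx] at h
  rcases (Nat.dvd_prime Nat.prime_two).1 hord with h | h
  · exact hσ1 (orderOf_eq_one_iff.1 h)
  · have h3 := orderOf_dvd_of_pow_eq_one h0
    rw [h] at h3
    exact Nat.not_even_iff_odd.2 hodd (even_iff_two_dvd.2 h3)

end Cfsg.Agent.Block.UniqueDegP
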