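import Mathlib
import Cfsg.Agent.S0111
import Cfsg.Agent.Lib.Invol.BSW.Main
import Cfsg.Agent.Lib.Block.BSWRec.Recognize
import Cfsg.Agent.Lib.Transfer.MaxClass
import Cfsg.Agent.Lib.Block.UniqueDegP.Transfer

/-!
A simple group with a trivial intersection cyclic subgroup of even order and index two in its
normalizer is a two-dimensional projective special linear group of odd characteristic.
-/

set_option autoImplicit false
set_option linter.style.haveILetI false
set_option linter.unusedSectionVars false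

namespace Cfsg.Agent.Block.UniqueDegP

open Cfsg.Agent.Invol

universe u

variable {G : Type u} [Group G] [Finite G]

theorem invol_unique {R : Subgroup G} (hR : IsCyclic R) {x y : G} (hxR : x ∈ R) (hyR : y ∈ R)
    (hx : orderOf x = 2) (hy : orderOf y = 2) : x = y := by
  haveI := hR
  have h : Subgroup.zpowers (⟨x, hxR⟩ : R) = Subgroup.zpowers (⟨y, hyR⟩ : R) :=
    BSWRec.subgroup_eq_of_card (by
      rw [Nat.card_zpowers, Nat.card_zpowers, Subgroup.orderOf_mk, Subgroup.orderOf_mk, hx, hy])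
  have hm := h ▸ Subgroup.mem_zpowers (⟨x, hxR⟩ : R)
  rcases BSWRec.eq_one_or_self_of_mem_zpowers (by rw [Subgroup.orderOf_mk, hy]) hm with e | e
  · exact absurd (congrArg Subtype.val e) (BSW.orderOf_two_iff.1 hx).2
  · exact congrArg Subtype.val e

theorem exists_pow_invol {u : G} {j : ℕ} (h : orderOf u = 2 ^ j) (h1 : u ≠ 1) :
    ∃ m : ℕ, orderOf (u ^ m) = 2 := by
  rcases j with _ | j
  · exact absurd (orderOf_eq_one_iff.1 (by rw [h, pow_zero])) h1
  · refine ⟨2 ^ j, ?_⟩
    rw [orderOf_pow' u (pow_ne_zero j two_ne_zero), h,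
      Nat.gcd_eq_right (pow_dvd_pow 2 j.le_succ), pow_succ,
      Nat.mul_div_cancel_left _ (Nat.two_pow_pos j)]

theorem no_normal_index_two [IsSimpleGroup G] (hna : ¬ ∀ a b : G, a * b = b * a) {M : Subgroup G}
    (hM : M.Normal) (hi : M.index = 2) : False := by
  rcases hM.eq_bot_or_eq_top with h | h
  · rw [h, Subgroup.index_bot] at hi
    haveI : Fact (Nat.Prime 2) := ⟨Nat.prime_two⟩
    haveI := isCyclic_of_prime_card hi
    exact hna fun a b => (IsCyclic.commGroup (α := G)).mul_comm a b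
  · rw [h, Subgroup.index_top] at hi
    omega

variable {E : Subgroup G}

/-- The Sylow 2-subgroup sits in the normalizer of `E`. -/
theorem exists_sylow [IsSimpleGroup G] (hna : ¬ ∀ a b : G, a * b = b * a) (hcyc : IsCyclic E)
    (hN : Nat.card (Subgroup.normalizer (E : Set G)) = 2 * Nat.card E) {z : G} (hz : orderOf z = 2)
    (hzE : z ∈ E) (hCN : ∀ g : G, g * z = z * g ↔ g ∈ Subgroup.normalizer (E : Set G)) :
    ∃ T : Sylow 2 G, (T : Subgroup G) ≤ Subgroup.normalizer (E : Set G) ∧ z ∈ (T : Subgroup G) ∧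
      (E ⊓ (T : Subgroup G)).relIndex (T : Subgroup G) = 2 ∧
      (∀ a b : G, a ∈ Subgroup.normalizer (E : Set G) → b ∈ Subgroup.normalizer (E : Set G) →
        (a * b ∈ E ↔ (a ∈ E ↔ b ∈ E))) ∧
      ∀ j m : ℕ, Odd m → Nat.card E = 2 ^ j * m → Nat.card (T : Subgroup G) = 2 ^ (j + 1) := by
  classical
  haveI : Fact (Nat.Prime 2) := ⟨Nat.prime_two⟩
  set C := Subgroup.normalizer (E : Set G) with hC
  have hEC : E ≤ C := Subgroup.le_normalizer
  have hEidx : (E.subgroupOf C).index = 2 := by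
    have h1 := (E.subgroupOf C).card_mul_index
    rw [Nat.card_congr (Subgroup.subgroupOfEquivOfLe hEC).toEquiv, hN, mul_comm 2] at h1
    exact Nat.eq_of_mul_eq_mul_left Nat.card_pos h1
  have hmul : ∀ a b : G, a ∈ C → b ∈ C → (a * b ∈ E ↔ (a ∈ E ↔ b ∈ E)) := fun a b ha hb => by
    simpa [Subgroup.mem_subgroupOf] using
      Subgroup.mul_mem_iff_of_index_two hEidx (a := ⟨a, ha⟩) (b := ⟨b, hb⟩)
  obtain ⟨T₀, hT₀⟩ := (IsPGroup.of_card (n := 1) (by
    rw [Nat.card_zpowers, Subgroup.orderOf_mk, hz, pow_one]) :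
      IsPGroup 2 (Subgroup.zpowers (⟨z, hEC hzE⟩ : C))).exists_le_sylow
  have hS2 : IsPGroup 2 ((T₀ : Subgroup C).map C.subtype) := T₀.isPGroup'.map _
  obtain ⟨T, hT⟩ := hS2.exists_le_sylow
  set S := (T₀ : Subgroup C).map C.subtype with hSdef
  have hSC : S ≤ C := Subgroup.map_subtype_le _
  have hzS : z ∈ S := ⟨⟨z, hEC hzE⟩, hT₀ (Subgroup.mem_zpowers _), rfl⟩
  have hmax : ∀ g ∈ (T : Subgroup G), g ∈ C → g ∈ S := by
    intro g hg hgC
    have h1 : (T : Subgroup G).comap C.subtype = T₀ :=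
      T₀.3 (T.isPGroup'.comap_of_injective C.subtype C.subtype_injective)
        (Subgroup.map_le_iff_le_comap.1 hT)
    exact ⟨⟨g, hgC⟩, by rw [SetLike.mem_coe, ← h1]; exact hg, rfl⟩
  have hScard : Nat.card S = Nat.card (T₀ : Subgroup C) :=
    (Nat.card_congr ((T₀ : Subgroup C).equivMapOfInjective _ C.subtype_injective).toEquiv).symm
  have hnotle : ∃ w ∈ S, w ∉ E := by
    by_contra h
    push Not at h
    have h1 : Nat.card S ∣ Nat.card E := Subgroup.card_dvd_of_le h
    refine T₀.not_dvd_index ?_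
    have h2 := (T₀ : Subgroup C).card_mul_index
    rw [hN, ← hScard] at h2
    obtain ⟨c, hc⟩ := h1
    rw [hc, mul_left_comm] at h2
    exact ⟨c, Nat.eq_of_mul_eq_mul_left Nat.card_pos h2⟩
  have hTS : ∀ g ∈ (T : Subgroup G), g ∈ S := by
    by_contra hne
    push Not at hne
    obtain ⟨g₀, hg₀, hg₀'⟩ := hne
    haveI := T.isPGroup'.isNilpotent
    have hlt : S.subgroupOf (T : Subgroup G) < ⊤ := lt_top_iff_ne_top.2 fun e => hg₀' (by
      have h1 : (⟨g₀, hg₀⟩ : (T : Subgroup G)) ∈ S.subgroupOf (T : Subgroup G) := e ▸ Subgroup.mem_top _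
      exact h1)
    obtain ⟨g, hgn, hgS⟩ :=
      SetLike.exists_of_lt (Group.normalizerCondition_of_isNilpotent _ hlt)
    by_cases hw : ∃ w ∈ S, w * w = z
    · obtain ⟨w, hwS, hww⟩ := hw
      refine hgS (Subgroup.mem_subgroupOf.2 (hmax g g.2 ((hCN g).1 ?_)))
      have h1 : (g : G) * w * (g : G)⁻¹ ∈ S := by
        have := (Subgroup.mem_normalizer_iff.1 hgn ⟨w, hT hwS⟩).1 hwS
        simpa [Subgroup.mem_subgroupOf] using this
      have h2 : (g : G) * z * (g : G)⁻¹ ∈ E := by
        rw [← hww, show (g : G) * (w * w) * (g : G)⁻¹ = ((g : G) * w * (g : G)⁻¹) * ((g : G) * w * (g : G)⁻¹) by group]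
        exact (hmul _ _ (hSC h1) (hSC h1)).2 Iff.rfl
      exact mul_inv_eq_iff_eq_mul.1
        (invol_unique hcyc h2 hzE (by rw [BSW.orderOf_conj]; exact hz) hz)
    · push Not at hw
      have hsq : ∀ w ∈ S, w * w = 1 := by
        intro w hwS
        by_contra h1
        obtain ⟨j, hj⟩ := IsPGroup.iff_orderOf.1 hS2 ⟨w * w, mul_mem hwS hwS⟩
        rw [Subgroup.orderOf_mk] at hj
        obtain ⟨m, hm⟩ := exists_pow_invol hj h1
        have hmE : (w * w) ^ m ∈ E := pow_mem ((hmul w w (hSC hwS) (hSC hwS)).2 Iff.rfl) m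
        refine hw (w ^ m) (pow_mem hwS m) ?_
        rw [← (Commute.refl w).mul_pow]
        exact invol_unique hcyc hmE hzE hm hz
      have hcomm : ∀ a ∈ S, ∀ b ∈ S, a * b = b * a := by
        intro a ha b hb
        have e1 := inv_eq_of_mul_eq_one_right (hsq a ha)
        have e2 := inv_eq_of_mul_eq_one_right (hsq b hb)
        have e3 := inv_eq_of_mul_eq_one_right (hsq _ (mul_mem ha hb))
        rw [mul_inv_rev, e1, e2] at e3
        exact e3.symm
      have hSE : ∀ w ∈ S, w ∈ E → w = 1 ∨ w = z := fun w hwS hwE => by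
        by_cases h1 : w = 1
        · exact Or.inl h1
        · exact Or.inr (invol_unique hcyc hwE hzE (BSW.orderOf_two_iff.2 ⟨hsq w hwS, h1⟩) hz)
      obtain ⟨t, htS, htE⟩ := hnotle
      have hS4 : Nat.card S = 4 := by
        have hb : Function.Bijective (fun i : Fin 4 =>
            (![⟨1, one_mem S⟩, ⟨z, hzS⟩, ⟨t, htS⟩, ⟨z * t, mul_mem hzS htS⟩] i : S)) := by
          refine ⟨fun a b h => ?_, fun w => ?_⟩
          · have hz1 : z ≠ 1 := (BSW.orderOf_two_iff.1 hz).2
            have ht1 : t ≠ 1 := fun e => htE (e ▸ one_mem E)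
            have htz : t ≠ z := fun e => htE (e ▸ hzE)
            have h3 : z * t ≠ 1 := fun e => htz (mul_left_cancel (e.trans (hsq z hzS).symm))
            have h' := congrArg Subtype.val h
            fin_cases a <;> fin_cases b <;> simp at h' ⊢ <;> first
              | exact hz1 h' | exact hz1 h'.symm | exact ht1 h' | exact ht1 h'.symm
              | exact htz h' | exact htz h'.symm | exact h3 h' | exact h3 h'.symm
          · by_cases hwE : (w : G) ∈ E
            · rcases hSE w w.2 hwE with h | h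
              · exact ⟨0, Subtype.ext h.symm⟩
              · exact ⟨1, Subtype.ext h.symm⟩
            · rcases hSE _ (mul_mem w.2 htS) ((hmul _ _ (hSC w.2) (hSC htS)).2
                (iff_of_false hwE htE)) with h | h
              · refine ⟨2, Subtype.ext ?_⟩
                show t = (w : G)
                rw [eq_inv_of_mul_eq_one_left h, inv_eq_of_mul_eq_one_right (hsq t htS)]
              · refine ⟨3, Subtype.ext ?_⟩
                show z * t = (w : G)
                rw [← h, mul_assoc, hsq t htS, mul_one]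
        rw [← Nat.card_congr (Equiv.ofBijective _ hb), Nat.card_eq_fintype_card, Fintype.card_fin]
      obtain ⟨n, hn⟩ := T.isPGroup'.exists_card_eq
      have hSTcard : Nat.card (S.subgroupOf (T : Subgroup G)) = 4 := by
        rw [Nat.card_congr (Subgroup.subgroupOfEquivOfLe hT).toEquiv, hS4]
      have hn3 : 3 ≤ n := by
        have h1 : 4 < 2 ^ n := by
          rw [← hn, ← hSTcard]
          exact lt_of_le_of_ne (Subgroup.card_le_card_group _) fun e =>
            hlt.ne (Subgroup.card_eq_iff_eq_top _ |>.1 e)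
        by_contra h
        push Not at h
        have : 2 ^ n ≤ 2 ^ 2 := Nat.pow_le_pow_right two_pos (by omega)
        omega
      have hself : Subgroup.centralizer ((S.subgroupOf (T : Subgroup G)) : Set (T : Subgroup G)) =
          S.subgroupOf (T : Subgroup G) := by
        refine le_antisymm (fun x hx => ?_) fun x hx => ?_
        · refine Subgroup.mem_subgroupOf.2 (hmax x x.2 ((hCN x).1 ?_))
          have := Subgroup.mem_centralizer_iff.1 hx ⟨z, hT hzS⟩ hzS
          exact (congrArg Subtype.val this).symm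
        · exact Subgroup.mem_centralizer_iff.2 fun y hy => Subtype.ext (hcomm _ hy _ hx)
      obtain ⟨a, ha⟩ := Transfer.MaxClass.exists_cyclic_index_two _ rfl T.isPGroup'
        (Transfer.MaxClass.index_four_of_class hn3 hn
          (Transfer.MaxClass.class_of_selfCentralizing n hn _ hSTcard hself)).1
      set R := Subgroup.zpowers (a : G) with hR
      have hRc : IsCyclic R := inferInstance
      have hRT : R ≤ (T : Subgroup G) := Subgroup.zpowers_le.2 a.2
      have hRsub : R.subgroupOf (T : Subgroup G) = Subgroup.zpowers a := by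
        ext x
        simp only [Subgroup.mem_subgroupOf, hR, Subgroup.mem_zpowers_iff]
        exact exists_congr fun i => by rw [Subtype.ext_iff, Subgroup.coe_zpow]
      haveI := Subgroup.normal_of_index_eq_two ha
      have hcent : ∀ w ∈ R, orderOf w = 2 → ∀ x ∈ (T : Subgroup G), x * w * x⁻¹ = w := by
        intro w hw hw2 x hx
        refine invol_unique hRc ?_ hw (by rw [BSW.orderOf_conj]; exact hw2) hw2
        have h1 : (⟨x, hx⟩ * ⟨w, hRT hw⟩ * ⟨x, hx⟩⁻¹ : (T : Subgroup G)) ∈ Subgroup.zpowers a :=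
          Subgroup.Normal.conj_mem inferInstance _ (hRsub ▸ hw) _
        rw [← hRsub] at h1
        exact h1
      have hzR : z ∉ R := fun h => hgS (Subgroup.mem_subgroupOf.2 (hmax g g.2 ((hCN g).1
        (mul_inv_eq_iff_eq_mul.1 (hcent z h hz g g.2)))))
      rcases Cfsg.Agent.S0111.result T R hRT (by rw [Subgroup.relIndex, hRsub, ha]) z hz (hT hzS)
        hzR with ⟨M, hM, hMi, -⟩ | ⟨c, hc⟩
      · exact no_normal_index_two hna hM hMi
      · have hle : (T : Subgroup G).map (MulAut.conj c⁻¹).toMonoidHom ≤ C := by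
          rintro _ ⟨x, hx, rfl⟩
          refine (hCN _).1 ?_
          have h1 := mul_inv_eq_iff_eq_mul.1 (hcent _ hc (by rw [BSW.orderOf_conj]; exact hz) x hx)
          change c⁻¹ * x * c⁻¹⁻¹ * z = z * (c⁻¹ * x * c⁻¹⁻¹)
          rw [inv_inv, show c⁻¹ * x * c * z = c⁻¹ * (x * (c * z * c⁻¹)) * c by group, h1]
          group
        set T' := ((T : Subgroup G).map (MulAut.conj c⁻¹).toMonoidHom).subgroupOf C with hT'
        have hT'card : Nat.card T' = 2 ^ n := by
          rw [hT', Nat.card_congr (Subgroup.subgroupOfEquivOfLe hle).toEquiv, ← Nat.card_congr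
            ((T : Subgroup G).equivMapOfInjective _ (MulAut.conj c⁻¹).injective).toEquiv, hn]
        obtain ⟨T₁, hT₁⟩ := (IsPGroup.of_card hT'card).exists_le_sylow
        have h1 := Subgroup.card_le_of_le hT₁
        rw [T₁.card_eq_multiplicity, ← T₀.card_eq_multiplicity, ← hScard, hS4, hT'card] at h1
        have : 2 ^ 3 ≤ 2 ^ n := Nat.pow_le_pow_right two_pos hn3
        omega
  have hTS' : (T : Subgroup G) = S := le_antisymm hTS hT
  refine ⟨T, hTS'.le.trans hSC, hT hzS, ?_, hmul, fun j m hm hcard => ?_⟩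
  · obtain ⟨w, hw, hwE⟩ := hnotle
    rw [Subgroup.relIndex]
    refine Subgroup.index_eq_two_iff.2 ⟨⟨w, hT hw⟩, fun x => ?_⟩
    simp only [Subgroup.mem_subgroupOf, Subgroup.mem_inf, Subgroup.coe_mul]
    have h1 := hmul (x : G) w (hSC (hTS x x.2)) (hSC hw)
    by_cases hx : (x : G) ∈ E
    · exact Or.inr ⟨⟨hx, x.2⟩, fun h => hwE ((h1.1 h.1).1 hx)⟩
    · exact Or.inl ⟨⟨h1.2 (iff_of_false hx hwE), mul_mem x.2 (hT hw)⟩, fun h => hx h.1⟩
  · rw [hTS', hScard, T₀.card_eq_multiplicity, hN, hcard, ← mul_assoc, ← pow_succ',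
      Nat.factorization_mul (pow_ne_zero _ two_ne_zero) hm.pos.ne', Finsupp.add_apply,
      Nat.prime_two.factorization_pow, Finsupp.single_eq_same,
      Nat.factorization_eq_zero_of_not_dvd hm.not_two_dvd_nat, add_zero]

/-- The even case. -/
theorem even_case [IsSimpleGroup G] (hna : ¬ ∀ a b : G, a * b = b * a) (hcyc : IsCyclic E)
    (h2 : 2 ∣ Nat.card E) (hN : Nat.card (Subgroup.normalizer (E : Set G)) = 2 * Nat.card E)
    (hTI : ∀ g : G, g ∉ Subgroup.normalizer (E : Set G) →
      E ⊓ E.map (MulAut.conj g).toMonoidHom = ⊥) :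
    ∃ (F : Type) (_ : Field F) (_ : Fintype F), Odd (Fintype.card F) ∧
      Nonempty (G ≃* Matrix.ProjectiveSpecialLinearGroup (Fin 2) F) := by
  classical
  haveI : Fact (Nat.Prime 2) := ⟨Nat.prime_two⟩
  haveI := hcyc
  obtain ⟨z', hz'⟩ := exists_prime_orderOf_dvd_card' 2 h2
  obtain ⟨z, hz, hzE⟩ : ∃ z : G, orderOf z = 2 ∧ z ∈ E :=
    ⟨z', by rw [Subgroup.orderOf_coe, hz'], z'.2⟩
  have hz1 : z ≠ 1 := (BSW.orderOf_two_iff.1 hz).2
  set C := Subgroup.normalizer (E : Set G) with hC
  have hcomm : ∀ a ∈ E, ∀ b ∈ E, a * b = b * a := fun a ha b hb =>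
    congrArg Subtype.val ((IsCyclic.commGroup (α := E)).mul_comm ⟨a, ha⟩ ⟨b, hb⟩)
  have hti : ∀ g a : G, a ∈ E → g * a * g⁻¹ ∈ E → a ≠ 1 → g ∈ C := fun g a ha h1 h0 => by
    by_contra hg
    have h : g * a * g⁻¹ ∈ E ⊓ E.map (MulAut.conj g).toMonoidHom := ⟨h1, a, ha, rfl⟩
    rw [hTI g hg, Subgroup.mem_bot] at h
    exact h0 (conj_eq_one_iff.1 h)
  have hnorm : ∀ g ∈ C, ∀ a, a ∈ E → g * a * g⁻¹ ∈ E := fun g hg a ha =>
    (Subgroup.mem_normalizer_iff.1 hg a).1 ha
  have hnorm' : ∀ g ∈ C, ∀ a, a ∈ E → g⁻¹ * a * g ∈ E := fun g hg a ha => by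
    simpa using hnorm g⁻¹ (inv_mem hg) a ha
  have hCN : ∀ g : G, g * z = z * g ↔ g ∈ C := fun g =>
    ⟨fun h => hti g z hzE (by rwa [h, mul_inv_cancel_right]) hz1, fun h =>
      mul_inv_eq_iff_eq_mul.1 (invol_unique hcyc (hnorm g h z hzE) hzE
        (by rw [BSW.orderOf_conj]; exact hz) hz)⟩
  obtain ⟨T, hTC, hzT, hTA, hmul, hTcard⟩ := exists_sylow hna hcyc hN hz hzE hCN
  set A := E ⊓ (T : Subgroup G) with hA
  have horder : ∀ u ∈ (T : Subgroup G), ∃ j, orderOf u = 2 ^ j := fun u hu => by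
    obtain ⟨j, hj⟩ := IsPGroup.iff_orderOf.1 T.isPGroup' ⟨u, hu⟩
    exact ⟨j, by rwa [Subgroup.orderOf_mk] at hj⟩
  obtain ⟨y, hyT, hyE⟩ : ∃ y ∈ (T : Subgroup G), y ∉ E := by
    by_contra h
    push Not at h
    rw [show A = (T : Subgroup G) from inf_eq_right.2 h, Subgroup.relIndex_self] at hTA
    omega
  -- an involution of the Sylow subgroup outside `E`
  obtain ⟨s, hsT, hsE, hs⟩ : ∃ s ∈ (T : Subgroup G), s ∉ E ∧ orderOf s = 2 := by
    by_contra h
    push Not at h
    have hall : ∀ u ∈ (T : Subgroup G), orderOf u = 2 → u = z := fun u hu hu2 =>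
      invol_unique hcyc (by by_contra he; exact h u hu he hu2) hzE hu2 hz
    refine parity_transfer hna T A hTA hyT (fun g hgT hgA => ?_) fun g r hr hgT => ⟨?_, hgT⟩
    · have hu1 : g⁻¹ * y * g ≠ 1 := fun e => hyE (by
        rw [show y = g * (g⁻¹ * y * g) * g⁻¹ by group, e]; simp)
      obtain ⟨j, hj⟩ := horder _ hgT
      obtain ⟨m, hm⟩ := exists_pow_invol hj hu1
      have e1 := hall _ (pow_mem hgT m) hm
      have e2 : (g⁻¹ * y * g) ^ m = g⁻¹ * y ^ m * g := by
        simpa using conj_pow (a := g⁻¹) (b := y) (i := m)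
      rw [e2] at hm e1
      rw [BSW.orderOf_conj'] at hm
      rw [hall _ (pow_mem hyT m) hm] at e1
      have hgC : g ∈ C := (hCN g).1 (by
        conv_lhs => rw [← e1]
        group)
      exact hyE (by simpa [mul_assoc] using hnorm g hgC _ hgA.1)
    · obtain ⟨r', rfl⟩ := hr
      by_cases hv : g⁻¹ * y ^ (r' + r') * g = 1
      · rw [hv]; exact one_mem E
      obtain ⟨j, hj⟩ := horder _ hgT
      obtain ⟨m, hm⟩ := exists_pow_invol hj hv
      have e1 := hall _ (pow_mem hgT m) hm
      have e2 : (g⁻¹ * y ^ (r' + r') * g) ^ m = g⁻¹ * (y ^ (r' + r')) ^ m * g := by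
        simpa using conj_pow (a := g⁻¹) (b := y ^ (r' + r')) (i := m)
      rw [e2] at hm e1
      rw [BSW.orderOf_conj'] at hm
      rw [hall _ (pow_mem (pow_mem hyT _) m) hm] at e1
      have hgC : g ∈ C := (hCN g).1 (by
        conv_lhs => rw [← e1]
        group)
      refine hnorm' g hgC _ ?_
      rw [pow_add, ← (Commute.refl y).mul_pow]
      exact pow_mem ((hmul y y (hTC hyT) (hTC hyT)).2 Iff.rfl) r'
  have hs1 : s ≠ 1 := (BSW.orderOf_two_iff.1 hs).2
  have hss : s * s = 1 := (BSW.orderOf_two_iff.1 hs).1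
  have hsinv : s⁻¹ = s := BSW.inv_self_of_two hs
  have hsz : s * z = z * s := (hCN s).2 (hTC hsT)
  -- all involutions are conjugate
  have hall : ∀ x : G, orderOf x = 2 → IsConj z x := by
    intro x hx
    obtain ⟨T', hT'⟩ := (IsPGroup.of_card (n := 1) (by rw [Nat.card_zpowers, hx, pow_one]) :
      IsPGroup 2 (Subgroup.zpowers x)).exists_le_sylow
    obtain ⟨g, hg⟩ := MulAction.exists_smul_eq G T' T
    have hxT : g * x * g⁻¹ ∈ (T : Subgroup G) := by
      rw [← hg]
      exact ⟨x, hT' (Subgroup.mem_zpowers x), rfl⟩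
    by_cases hxE : g * x * g⁻¹ ∈ E
    · rw [← invol_unique hcyc hxE hzE (by rw [BSW.orderOf_conj]; exact hx) hz]
      exact (isConj_iff.2 ⟨g, rfl⟩ : IsConj x (g * x * g⁻¹)).symm
    rcases Cfsg.Agent.S0111.result T A inf_le_right hTA _
      (by rw [BSW.orderOf_conj]; exact hx) hxT (fun h => hxE h.1) with ⟨M, hM, hMi, -⟩ | ⟨c, hc⟩
    · exact (no_normal_index_two hna hM hMi).elim
    · rw [← invol_unique hcyc hc.1 hzE (by rw [BSW.orderOf_conj, BSW.orderOf_conj]; exact hx) hz]
      exact (isConj_iff.2 ⟨c * g, by group⟩ :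
        IsConj x (c * (g * x * g⁻¹) * c⁻¹)).symm
  obtain ⟨g₀, hg₀⟩ := isConj_iff.1 (hall s hs)
  have hfixs : ∀ a ∈ E, a * s = s * a → a = 1 ∨ a = z := by
    intro a ha has
    by_cases h1 : a * a = 1
    · by_cases ha1 : a = 1
      · exact Or.inl ha1
      · exact Or.inr (invol_unique hcyc ha hzE (BSW.orderOf_two_iff.2 ⟨h1, ha1⟩) hz)
    exfalso
    set c := g₀⁻¹ * a * g₀ with hc
    have hcC : c ∈ C := (hCN c).1 (by
      rw [hc, show g₀⁻¹ * a * g₀ * z = g₀⁻¹ * (a * (g₀ * z * g₀⁻¹)) * g₀ by group, hg₀, has,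
        ← hg₀]
      group)
    have hcc : c * c ∈ E := (hmul c c hcC hcC).2 Iff.rfl
    have hc1 : c * c ≠ 1 := fun e => h1 (by
      rw [show a * a = g₀ * (c * c) * g₀⁻¹ by rw [hc]; group, e]; simp)
    have hgC : g₀ ∈ C := hti g₀ (c * c) hcc (by
      rw [show g₀ * (c * c) * g₀⁻¹ = a * a by rw [hc]; group]; exact mul_mem ha ha) hc1
    exact hsE (hg₀ ▸ hnorm g₀ hgC z hzE)
  have hsC : s ∈ C := hTC hsT
  have hconjE : ∀ a ∈ E, s * a * s ∈ E := fun a ha => by
    simpa [hsinv] using hnorm s hsC a ha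
  have hphi : ∀ a ∈ E, a * (s * a * s) = 1 ∨ a * (s * a * s) = z := by
    intro a ha
    refine hfixs _ (mul_mem ha (hconjE a ha)) ?_
    rw [show a * (s * a * s) * s = a * (s * a) * (s * s) by group, hss, mul_one,
      show s * (a * (s * a * s)) = (s * a * s) * a * s by group, ← hcomm a ha _ (hconjE a ha),
      show a * (s * a * s) * s = a * (s * a) * (s * s) by group, hss, mul_one]
  have hinverts : ∀ a ∈ E, s * a * s⁻¹ = a⁻¹ := by
    obtain ⟨a₀, ha₀⟩ := IsCyclic.exists_generator (α := E)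
    rcases hphi a₀ a₀.2 with h | h
    · intro a ha
      obtain ⟨i, hi⟩ := ha₀ ⟨a, ha⟩
      have hi' : (a₀ : G) ^ i = a := congrArg Subtype.val hi
      rw [← hi', ← conj_zpow, hsinv, eq_inv_of_mul_eq_one_right h, inv_zpow]
    · exfalso
      set a := (a₀ : G) with hadef
      have hsa : s * a * s⁻¹ = a⁻¹ * z := by rw [hsinv, ← h]; group
      obtain ⟨j, m, hm, hcard⟩ := Nat.exists_eq_two_pow_mul_odd (n := Nat.card E) Nat.card_pos.ne'
      have hao : orderOf a = 2 ^ j * m := by
        rw [hadef, Subgroup.orderOf_coe, orderOf_eq_card_of_forall_mem_zpowers ha₀, hcard]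
      set b := a ^ m with hb
      have hbE : b ∈ E := pow_mem a₀.2 m
      have hbo : orderOf b = 2 ^ j := by
        rw [hb, orderOf_pow' a hm.pos.ne', hao, Nat.gcd_mul_left_left,
          Nat.mul_div_cancel _ hm.pos]
      have hzz : z * z = 1 := (BSW.orderOf_two_iff.1 hz).1
      have hzinv : z⁻¹ = z := BSW.inv_self_of_two hz
      have hzev : ∀ i : ℤ, Even i → z ^ i = 1 := fun i hi => by
        obtain ⟨k, rfl⟩ := hi
        rw [zpow_add, ← Commute.mul_zpow rfl, hzz, one_zpow]
      have hsb : ∀ i : ℤ, s * b ^ i * s⁻¹ = b ^ (-i) * z ^ i := fun i => by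
        have h1 : s * b * s⁻¹ = b⁻¹ * z := by
          rw [hb, ← conj_pow, hsa, (show Commute a⁻¹ z from
            hcomm _ (inv_mem a₀.2) _ hzE).mul_pow, inv_pow]
          congr 1
          obtain ⟨k, rfl⟩ := hm
          rw [pow_succ, pow_mul, pow_two, hzz, one_pow, one_mul]
        rw [← conj_zpow, h1, (show Commute b⁻¹ z from hcomm _ (inv_mem hbE) _ hzE).mul_zpow,
          inv_zpow, zpow_neg]
      obtain ⟨i₀, hi₀⟩ : ∃ i₀ : ℕ, i₀ + 1 = j := by
        rcases j with _ | j
        · rw [pow_zero, one_mul] at hcard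
          exact absurd h2 (hcard ▸ hm.not_two_dvd_nat)
        · exact ⟨j, rfl⟩
      have hbz : b ^ ((2 ^ i₀ : ℕ) : ℤ) = z := by
        refine invol_unique hcyc (zpow_mem hbE _) hzE ?_ hz
        rw [zpow_natCast, orderOf_pow' b (pow_ne_zero _ two_ne_zero), hbo, ← hi₀,
          Nat.gcd_eq_right (pow_dvd_pow 2 i₀.le_succ), pow_succ,
          Nat.mul_div_cancel_left _ (Nat.two_pow_pos i₀)]
      have hi₀2 : 2 ≤ i₀ := by
        by_contra hi
        have h1 := hsb 1
        simp only [zpow_one, zpow_neg] at h1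
        rcases (show i₀ = 0 ∨ i₀ = 1 by omega) with rfl | rfl
        · simp only [pow_zero, Nat.cast_one, zpow_one] at hbz
          rw [hbz, hsz, mul_inv_cancel_right, hzinv, hzz] at h1
          exact hz1 h1
        · simp only [pow_one, Nat.cast_ofNat] at hbz
          have hb2 : b * b = z := by rw [← hbz, zpow_two]
          rw [← hb2, inv_mul_cancel_left, mul_inv_eq_iff_eq_mul] at h1
          rcases hfixs b hbE h1.symm with e | e
          · rw [e, orderOf_one] at hbo
            rw [← hi₀] at hbo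
            norm_num at hbo
          · rw [e, hz, ← hi₀] at hbo
            norm_num at hbo
      have hTj := hTcard j m hm hcard
      have hAcard : Nat.card A = 2 ^ j := by
        have h1 := (A.subgroupOf (T : Subgroup G)).card_mul_index
        rw [Nat.card_congr (Subgroup.subgroupOfEquivOfLe inf_le_right).toEquiv, hTj, pow_succ] at h1
        rw [show (A.subgroupOf (T : Subgroup G)).index = 2 from hTA] at h1
        exact Nat.eq_of_mul_eq_mul_right two_pos h1
      have hAb : ∀ x, x ∈ A ↔ x ∈ Subgroup.zpowers b := by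
        have e : A.subgroupOf E = (Subgroup.zpowers b).subgroupOf E :=
          BSWRec.subgroup_eq_of_card (by
            rw [Nat.card_congr (Subgroup.subgroupOfEquivOfLe inf_le_left).toEquiv, hAcard,
              Nat.card_congr (Subgroup.subgroupOfEquivOfLe (Subgroup.zpowers_le.2 hbE)).toEquiv,
              Nat.card_zpowers, hbo])
        intro x
        constructor
        · intro hx
          exact (e.le (show (⟨x, hx.1⟩ : E) ∈ A.subgroupOf E from hx) : _)
        · intro hx
          exact (e.ge (show (⟨x, Subgroup.zpowers_le.2 hbE hx⟩ : E) ∈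
            (Subgroup.zpowers b).subgroupOf E from hx) : _)
      have hbT : b ∈ (T : Subgroup G) := ((hAb b).2 (Subgroup.mem_zpowers b)).2
      set B := Subgroup.zpowers (b ^ (2 : ℤ)) with hB
      have hpar : ∀ i : ℤ, b ^ i ∈ B ↔ Even i := by
        intro i
        constructor
        · rintro ⟨k, hk⟩
          change (b ^ (2 : ℤ)) ^ k = b ^ i at hk
          rw [← zpow_mul, zpow_eq_zpow_iff_modEq, hbo, ← hi₀] at hk
          obtain ⟨c, hc⟩ := hk.dvd
          exact ⟨k + c * 2 ^ i₀, by push_cast [pow_succ] at hc; linarith⟩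
        · rintro ⟨k, rfl⟩
          exact ⟨k, by change (b ^ (2 : ℤ)) ^ k = _; rw [← zpow_mul, two_mul]⟩
      have hsB : Subgroup.zpowers s ≤ Subgroup.normalizer (B : Set G) := by
        refine Subgroup.zpowers_le.2 ?_
        rw [Subgroup.mem_normalizer_iff]
        have key : ∀ x ∈ B, s * x * s⁻¹ ∈ B := by
          rintro _ ⟨k, rfl⟩
          change s * (b ^ (2 : ℤ)) ^ k * s⁻¹ ∈ B
          rw [← zpow_mul, hsb, hzev _ (even_two.mul_right k), mul_one, hpar]
          exact (even_two.mul_right k).neg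
        refine fun x => ⟨key x, fun hx => ?_⟩
        have := key _ hx
        rwa [show s * (s * x * s⁻¹) * s⁻¹ = x by
          rw [hsinv]; simp [mul_assoc, hss]; simp [← mul_assoc, hss]] at this
      set Q := B ⊔ Subgroup.zpowers s with hQ
      have hsQ : s ∈ Q := le_sup_right (a := B) (Subgroup.mem_zpowers s)
      have hmemQ : ∀ x ∈ Q, x ∈ B ∨ x * s ∈ B := by
        intro x hx
        obtain ⟨v, hv, w, hw, rfl⟩ := BSWRec.mem_sup_of_le_normalizer hsB hx
        rcases BSWRec.eq_one_or_self_of_mem_zpowers hs hw with rfl | rfl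
        · left; simpa using hv
        · right; rwa [mul_assoc, hss, mul_one]
      have hBE : ∀ x ∈ B, x ∈ E := fun x hx => Subgroup.zpowers_le.2 (zpow_mem hbE 2) hx
      have hbsE : ∀ i : ℤ, b ^ i * s ∉ E := fun i hi =>
        hsE ((Subgroup.mul_mem_cancel_left E (zpow_mem hbE i)).1 hi)
      have hQb : ∀ i : ℤ, b ^ i ∈ Q ↔ Even i := fun i => by
        refine ⟨fun hi => ?_, fun hi => le_sup_left (b := Subgroup.zpowers s) ((hpar i).2 hi)⟩
        rcases hmemQ _ hi with h1 | h1
        · exact (hpar i).1 h1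
        · exact absurd (hBE _ h1) (hbsE i)
      have hQbs : ∀ i : ℤ, b ^ i * s ∈ Q ↔ Even i := fun i => by
        rw [Subgroup.mul_mem_cancel_right Q hsQ, hQb]
      have hdec : ∀ x ∈ (T : Subgroup G), ∃ i : ℤ, x = b ^ i ∨ x = b ^ i * s := by
        intro x hx
        by_cases hxE : x ∈ E
        · obtain ⟨i, hi⟩ := (hAb x).1 ⟨hxE, hx⟩
          exact ⟨i, Or.inl hi.symm⟩
        · obtain ⟨i, hi⟩ := (hAb (x * s)).1
            ⟨(hmul x s (hTC hx) hsC).2 (iff_of_false hxE hsE), mul_mem hx hsT⟩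
          refine ⟨i, Or.inr ?_⟩
          change b ^ i = x * s at hi
          rw [hi, mul_assoc, hss, mul_one]
      have hswap : ∀ i : ℤ, b ^ i * s * b = b ^ (i - 1 + (2 ^ i₀ : ℕ)) * s := by
        intro i
        have h1 := hsb 1
        simp only [zpow_one, zpow_neg] at h1
        rw [mul_inv_eq_iff_eq_mul] at h1
        rw [mul_assoc, h1, zpow_add, hbz, zpow_sub_one, mul_assoc (b ^ i * b⁻¹)]
        group
      have hev : Even ((2 ^ i₀ : ℕ) : ℤ) := by
        exact_mod_cast (Nat.even_pow.2 ⟨even_two, by omega⟩ : Even (2 ^ i₀))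
      have hQT : Q.relIndex (T : Subgroup G) = 2 := by
        rw [Subgroup.relIndex]
        refine Subgroup.index_eq_two_iff.2 ⟨⟨b, hbT⟩, fun x => ?_⟩
        simp only [Subgroup.mem_subgroupOf, Subgroup.coe_mul]
        obtain ⟨i, hi | hi⟩ := hdec x x.2
        · rw [hi, hQb, ← zpow_add_one, hQb, Int.even_add_one]
          by_cases hie : Even i
          · exact Or.inr ⟨hie, not_not.2 hie⟩
          · exact Or.inl ⟨hie, hie⟩
        · rw [hi, hQbs, hswap, hQbs, Int.even_add, iff_true_right hev, Int.even_sub,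
            iff_false_right (by decide : ¬ Even (1 : ℤ))]
          by_cases hie : Even i
          · exact Or.inr ⟨hie, not_not.2 hie⟩
          · exact Or.inl ⟨hie, hie⟩
      have hyy : b * s * (b * s) = z := by
        have h1 := hsb 1
        simp only [zpow_one, zpow_neg] at h1
        rw [show b * s * (b * s) = b * (s * b * s) by group]
        nth_rewrite 2 [← hsinv]
        rw [h1, mul_inv_cancel_left]
      have hsquare : ∀ i : ℤ, b ^ i * s * (b ^ i * s) = z ^ i := fun i => by
        rw [show b ^ i * s * (b ^ i * s) = b ^ i * (s * b ^ i * s) by group]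
        nth_rewrite 2 [← hsinv]
        rw [hsb, ← mul_assoc, ← zpow_add, add_neg_cancel, zpow_zero, one_mul]
      refine parity_transfer hna T Q hQT (mul_mem hbT hsT) (fun g hgT hgQ => ?_) fun g r hr hgT => ?_
      · have hu2 : (g⁻¹ * (b * s) * g) * (g⁻¹ * (b * s) * g) = g⁻¹ * z * g := by
          rw [← hyy]; group
        obtain ⟨i, hi | hi⟩ := hdec _ hgT
        · have hv : g⁻¹ * z * g ∈ E := by
            rw [← hu2, hi]; exact mul_mem (zpow_mem hbE i) (zpow_mem hbE i)
          have e : g⁻¹ * z * g = z :=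
            invol_unique hcyc hv hzE (by rw [BSW.orderOf_conj']; exact hz) hz
          have hgC : g ∈ C := (hCN g).1 (by
            conv_lhs => rw [← e]
            group)
          have h1 := hnorm g hgC _ (zpow_mem hbE i)
          rw [← hi, show g * (g⁻¹ * (b * s) * g) * g⁻¹ = b * s by group] at h1
          exact hbsE 1 (by rwa [zpow_one])
        · rw [hi] at hu2 hgQ
          rw [hsquare, hzev i ((hQbs i).1 hgQ)] at hu2
          refine hz1 ?_
          rw [show z = g * (g⁻¹ * z * g) * g⁻¹ by group, ← hu2]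
          simp
      · obtain ⟨r', rfl⟩ := hr
        rw [pow_add, ← (Commute.refl (b * s)).mul_pow, hyy] at hgT ⊢
        rcases Nat.even_or_odd r' with ⟨k, rfl⟩ | ⟨k, rfl⟩
        · rw [pow_add, ← (Commute.refl z).mul_pow, hzz, one_pow, mul_one, inv_mul_cancel]
          exact one_mem Q
        rw [pow_succ, pow_mul, pow_two, hzz, one_pow, one_mul] at hgT ⊢
        obtain ⟨i, hi | hi⟩ := hdec _ hgT
        · have e : g⁻¹ * z * g = z := invol_unique hcyc (hi ▸ zpow_mem hbE i) hzE
            (by rw [BSW.orderOf_conj']; exact hz) hz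
          rw [e, ← hbz, hQb]
          exact hev
        · have h1 : g⁻¹ * z * g * (g⁻¹ * z * g) = 1 := by
            rw [show g⁻¹ * z * g * (g⁻¹ * z * g) = g⁻¹ * (z * z) * g by group, hzz]
            simp
          rw [hi, hsquare] at h1
          rw [hi, hQbs]
          by_contra hie
          obtain ⟨c, hc⟩ := Int.not_even_iff_odd.1 hie
          rw [hc, zpow_add, hzev _ (even_two.mul_right c), one_mul, zpow_one] at h1
          exact hz1 h1
  have D : BSW.Hyp z s E :=
    { ot := hz
      comm := hcomm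
      tK := hzE
      KC := fun a ha => hcomm a ha z hzE
      os := hs
      st := hsz
      sK := hsE
      cover := fun g hg => by
        have hgC := (hCN g).1 hg
        by_cases hgE : g ∈ E
        · exact Or.inl hgE
        · exact Or.inr ((hmul g s hgC hsC).2 (iff_of_false hgE hsE))
      fixs := hfixs
      inverts := hinverts
      ti := fun g a ha h1 h0 => (hCN g).2 (hti g a ha h1 h0)
      conj := fun x w hx hw => (hall x hx).symm.trans (hall w hw) }
  obtain ⟨Q, D', hcard, hQ, hDab, hDcard, hQD, hNQ, hX⟩ := D.concl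
  exact BSWRec.psl_of_data hna Q D' hcard hQ hDab hDcard hQD hNQ hX

end Cfsg.Agent.Block.UniqueDegP
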