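import Mathlib
import Cfsg.Prelude.Def_Blocks
import Cfsg.Agent.S0806
import Cfsg.Agent.Lib.Classical.DicksonSmallQ
import Cfsg.Agent.Lib.Char.SelfCentPrime
import Cfsg.Agent.Lib.Char.Clifford
import Cfsg.Agent.Lib.Char.Complete

/-!
A transitive group of prime degree `p` with a single irreducible character of degree `p`: it is
simple, and the final identification once it is known to be `PSL(2, q)` for an odd `q`.
-/

set_option autoImplicit false
set_option linter.style.haveILetI false

namespace Cfsg.Agent.Block.UniqueDegP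

open Cfsg Cfsg.Agent.Char
open scoped ComplexConjugate Pointwise

universe u

/-- The hypotheses. -/
structure Hyp (p : ℕ) {G : Type u} [Group G] [Fintype G] (x : G) (E : Subgroup G) : Prop where
  five : 5 ≤ p
  scp : SCP.Hyp p x
  uniq : ∃! χ : IrrCharacter G, charDegree (χ : G → ℂ) = p
  simple : IsSimpleGroup G
  noncomm : ¬ ∀ a b : G, a * b = b * a
  cyc : IsCyclic E
  dvd : Nat.card E ∣ p - 1
  two_le : 2 ≤ Nat.card E
  e_eq : SCP.e x = Nat.card E
  norm : Nat.card (Subgroup.normalizer (E : Set G)) = 2 * Nat.card E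
  ti : ∀ g : G, g ∉ Subgroup.normalizer (E : Set G) → E ⊓ E.map (MulAut.conj g).toMonoidHom = ⊥
  idx : ∃ H : Subgroup G, H.index = p

section Final

variable {G : Type u} [Group G] [Finite G] {p : ℕ} [hp : Fact p.Prime]

/-- A simple group embeds in the symmetric group on the cosets of a proper subgroup. -/
theorem card_dvd_factorial [IsSimpleGroup G] {H : Subgroup G} (h : H.index = p) :
    Nat.card G ∣ p.factorial := by
  haveI : H.normalCore.Normal := H.normalCore_normal
  have hker : H.normalCore = ⊥ := by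
    rcases IsSimpleGroup.eq_bot_or_eq_top_of_normal H.normalCore inferInstance with e | e
    · exact e
    · have hH : H = ⊤ := top_le_iff.1 (e ▸ H.normalCore_le)
      rw [hH, Subgroup.index_top] at h
      exact absurd h.symm hp.out.ne_one
  have hinj : Function.Injective (MulAction.toPermHom G (G ⧸ H)) := by
    rw [← MonoidHom.ker_eq_bot_iff, ← Subgroup.normalCore_eq_ker, hker]
  have h1 := Subgroup.card_dvd_of_injective _ hinj
  rwa [Nat.card_perm, ← Subgroup.index_eq_card, h] at h1

/-- A `PSL(2, q)`, `q` odd, with a subgroup of prime index `p ≥ 5`. -/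
theorem conclude [IsSimpleGroup G] (h5 : 5 ≤ p) (hidx : ∃ H : Subgroup G, H.index = p) {F : Type}
    [Field F] [Fintype F] (hodd : Odd (Fintype.card F))
    (φ : G ≃* Matrix.ProjectiveSpecialLinearGroup (Fin 2) F) :
    (p = 5 ∨ p = 7 ∨ p = 11) ∧ ∃ (F : Type) (_ : Field F) (_ : Fintype F), Fintype.card F = p ∧
      Nonempty (G ≃* Matrix.ProjectiveSpecialLinearGroup (Fin 2) F) := by
  classical
  obtain ⟨H, hH⟩ := hidx
  have hprime := hp.out
  obtain ⟨q, hq⟩ : ∃ q, Fintype.card F = q := ⟨_, rfl⟩
  have hdvd : p ∣ Nat.card G := hH ▸ Subgroup.index_dvd_card H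
  have hcard := Dickson.card_psl_odd (F := F) hodd
  rw [← Nat.card_congr φ.toEquiv, hq] at hcard
  rw [hq] at hodd
  have hple : p ≤ q := by
    have h1 : p ∣ q * ((q - 1) * (q + 1)) := hcard ▸ hdvd.mul_right 2
    have hq1 : 1 < q := hq ▸ Fintype.one_lt_card
    rcases hprime.dvd_mul.1 h1 with h | h
    · exact Nat.le_of_dvd (by omega) h
    · rcases hprime.dvd_mul.1 h with h | h
      · have := Nat.le_of_dvd (by omega) h
        omega
      · have h2 := Nat.le_of_dvd (by omega) h
        rcases hprime.eq_two_or_odd with h3 | h3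
        · omega
        · obtain ⟨m, hm⟩ := hodd
          omega
  have hmem : q ∈ ({2, 3, 5, 7, 9, 11} : Finset ℕ) := by
    by_contra hn
    have hH' : (H.map φ.toMonoidHom).index = p := by
      rw [Subgroup.index_map_of_bijective φ.bijective, hH]
    have := (Cfsg.Agent.S0806.result hq hn).1 (H.map φ.toMonoidHom) (fun e => by
      rw [e, Subgroup.index_top] at hH'
      exact hprime.ne_one hH'.symm)
    omega
  have hfact := card_dvd_factorial hH
  refine ⟨?_, F, inferInstance, inferInstance, ?_, ⟨φ⟩⟩ <;>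
  · try rw [hq]
    simp only [Finset.mem_insert, Finset.mem_singleton] at hmem
    rcases hmem with rfl | rfl | rfl | rfl | rfl | rfl
    all_goals norm_num at hcard hodd
    all_goals first
      | omega
      | (have hG : Nat.card G = 168 := by omega
         have : p ≤ 7 := hple
         interval_cases p <;> first | omega | (revert hprime; norm_num; done))
      | (have hG : Nat.card G = 360 := by omega
         rw [hG] at hfact hdvd
         have : p ≤ 9 := hple
         interval_cases p <;> first | omega | (revert hprime; norm_num; done) | (revert hfact; decide) | (revert hdvd; decide))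
      | (have hG : Nat.card G = 660 := by omega
         rw [hG] at hfact hdvd
         have : p ≤ 11 := hple
         interval_cases p <;> first | omega | (revert hprime; norm_num; done) | (revert hfact; decide) | (revert hdvd; decide))

end Final

section Simple

variable {α : Type u} [Fintype α] [DecidableEq α] {p : ℕ} [hp : Fact p.Prime]

/-- The centralizer of an element of order `p` in a group of degree `p`. -/
theorem cent_eq (hα : Fintype.card α = p) (G : Subgroup (Equiv.Perm α)) {x : G}
    (hx : orderOf x = p) : Subgroup.centralizer ({x} : Set G) = Subgroup.zpowers x := by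
  refine le_antisymm (fun g hg => ?_) (Subgroup.zpowers_le.2
    (Subgroup.mem_centralizer_singleton_iff.2 rfl))
  rw [Subgroup.mem_centralizer_singleton_iff] at hg
  have hx' : orderOf (x : Equiv.Perm α) = Fintype.card α := by rw [Subgroup.orderOf_coe, hx, hα]
  have hcyc : (x : Equiv.Perm α).IsCycle :=
    Equiv.Perm.isCycle_of_prime_order'' (hα ▸ hp.out) hx'
  have hsupp : (x : Equiv.Perm α).support = Finset.univ :=
    Finset.eq_univ_of_card _ (hcyc.orderOf.symm.trans hx')
  have hmoves : ∀ b : α, (x : Equiv.Perm α) b ≠ b := fun b =>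
    Equiv.Perm.mem_support.1 (hsupp ▸ Finset.mem_univ b)
  obtain ⟨a⟩ : Nonempty α := Fintype.card_pos_iff.1 (hα ▸ hp.out.pos)
  obtain ⟨i, hi⟩ := hcyc.exists_zpow_eq (hmoves a) (hmoves ((g : Equiv.Perm α) a))
  refine Subgroup.mem_zpowers_iff.2 ⟨i, Subtype.ext (Equiv.ext fun b => ?_)⟩
  obtain ⟨j, rfl⟩ := hcyc.exists_zpow_eq (hmoves a) (hmoves b)
  have hc : Commute (g : Equiv.Perm α) (x : Equiv.Perm α) := congrArg Subtype.val hg
  rw [Subgroup.coe_zpow, ← Equiv.Perm.mul_apply (g : Equiv.Perm α), (hc.zpow_right j).eq,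
    Equiv.Perm.mul_apply, ← hi, ← Equiv.Perm.mul_apply, ← Equiv.Perm.mul_apply,
    ← zpow_add, ← zpow_add, add_comm]

/-- A nontrivial normal subgroup contains every Sylow subgroup of order `p`. -/
theorem le_of_normal (hα : Fintype.card α = p) (G : Subgroup (Equiv.Perm α))
    [MulAction.IsPretransitive G α] (P : Sylow p G) (hP : Nat.card P = p) (N : Subgroup G)
    [N.Normal] (hN : N ≠ ⊥) : (P : Subgroup G) ≤ N := by
  classical
  have hdvd : p ∣ Nat.card N := by
    obtain ⟨a, ha⟩ : ∃ a : α, ∃ n : N, n • a ≠ a := by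
      by_contra h
      push Not at h
      refine hN ((Subgroup.eq_bot_iff_forall _).2 fun n hn => Subtype.ext (Equiv.ext fun a => ?_))
      exact h a ⟨n, hn⟩
    have hB : MulAction.IsBlock G (MulAction.orbit N a) := MulAction.IsBlock.orbit_of_normal a
    have h1 := MulAction.IsBlock.ncard_dvd_card hB ⟨a, MulAction.mem_orbit_self a⟩
    rw [Nat.card_eq_fintype_card, hα] at h1
    rcases (Nat.dvd_prime hp.out).1 h1 with h | h
    · obtain ⟨n, hn⟩ := ha
      obtain ⟨b, hb⟩ := Set.ncard_eq_one.1 h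
      have h2 : a ∈ MulAction.orbit N a := MulAction.mem_orbit_self a
      have h3 : n • a ∈ MulAction.orbit N a := MulAction.mem_orbit a n
      rw [hb, Set.mem_singleton_iff] at h2 h3
      exact absurd (h3.trans h2.symm) hn
    · rw [← h, ← Nat.card_coe_set_eq,
        Nat.card_congr (MulAction.orbitEquivQuotientStabilizer N a), ← Subgroup.index_eq_card]
      exact Subgroup.index_dvd_card _
  obtain ⟨y, hy⟩ := exists_prime_orderOf_dvd_card' p hdvd
  have hy' : orderOf (y : G) = p := by rw [Subgroup.orderOf_coe, hy]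
  obtain ⟨Q, hQ⟩ := (IsPGroup.of_card (n := 1) (by rw [Nat.card_zpowers, hy', pow_one]) :
    IsPGroup p (Subgroup.zpowers (y : G))).exists_le_sylow
  have hQy : Subgroup.zpowers (y : G) = Q := Subgroup.eq_of_le_of_card_ge hQ (by
    rw [Nat.card_zpowers, hy']
    obtain ⟨g, hg⟩ := MulAction.exists_smul_eq G P Q
    rw [← hg]
    exact ((Nat.card_congr (Sylow.equiv (g • P) P).toEquiv).trans hP).le)
  obtain ⟨g, hg⟩ := MulAction.exists_smul_eq G Q P
  rw [← hg]
  intro z hz
  change z ∈ MulAut.conj g • (Q : Subgroup G) at hz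
  rw [Subgroup.mem_pointwise_smul_iff_inv_smul_mem] at hz
  have h1 : (MulAut.conj g)⁻¹ • z ∈ N := (hQy.symm.le.trans (Subgroup.zpowers_le.2 y.2)) hz
  have h2 := Subgroup.Normal.conj_mem (H := N) inferInstance _ h1 g
  simpa [MulAut.smul_def, mul_assoc] using h2

/-- The group is simple. -/
theorem isSimple (hα : Fintype.card α = p) (G : Subgroup (Equiv.Perm α))
    [MulAction.IsPretransitive G α]
    (huniq : ∃! χ : IrrCharacter G, charDegree (χ : G → ℂ) = p) (P : Sylow p G)
    (hP : Nat.card P = p) (E : Subgroup G)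
    (hPE : (P : Subgroup G) ⊔ E = Subgroup.normalizer ((P : Subgroup G) : Set G))
    (hEc : IsCyclic E) (hElt : Nat.card E < p) : IsSimpleGroup G := by
  classical
  letI := Fintype.ofFinite G
  haveI : Nontrivial G := Finite.one_lt_card_iff_nontrivial.1
    (lt_of_lt_of_le hp.out.one_lt (hP ▸ Subgroup.card_le_card_group _))
  refine ⟨fun N hN => ?_⟩
  by_contra hne
  push Not at hne
  haveI := hN
  have hPN : (P : Subgroup G) ≤ N := le_of_normal hα G P hP N hne.1
  let f : E →* G ⧸ N := (QuotientGroup.mk' N).comp E.subtype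
  have hsurj : Function.Surjective f := by
    intro q
    induction q using QuotientGroup.induction_on with
    | H g =>
      have hg : g ∈ ((Subgroup.normalizer ((P : Subgroup G) : Set G) ⊔ N : Subgroup G) : Set G) := by
        erw [Sylow.normalizer_sup_eq_top' P hPN]
        exact Subgroup.mem_top g
      rw [← hPE] at hg
      haveI : N.Normal := hN
      rw [Subgroup.coe_mul_of_left_le_normalizer_right _ _ (by
        rw [Subgroup.normalizer_eq_top N]; exact le_top)] at hg
      obtain ⟨h, hh, n, hn, rfl⟩ := hg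
      have hh' : h ∈ (((P : Subgroup G) ⊔ E : Subgroup G) : Set G) := hh
      rw [Subgroup.coe_mul_of_right_le_normalizer_left _ _ (le_sup_right.trans hPE.le)] at hh'
      obtain ⟨a, ha, b, hb, rfl⟩ := hh'
      refine ⟨⟨b, hb⟩, ?_⟩
      show ((b : G) : G ⧸ N) = ((a * b * n : G) : G ⧸ N)
      rw [QuotientGroup.mk_mul_of_mem _ hn, QuotientGroup.mk_mul,
        (QuotientGroup.eq_one_iff a).2 (hPN ha), one_mul]
  haveI : IsCyclic (G ⧸ N) := isCyclic_of_surjective f hsurj
  letI : CommGroup (G ⧸ N) := IsCyclic.commGroup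
  haveI : Nontrivial (G ⧸ N) := QuotientGroup.nontrivial_iff.2 hne.2
  obtain ⟨q₀, hq₀⟩ := exists_ne (1 : G ⧸ N)
  haveI : HasEnoughRootsOfUnity ℂ (Monoid.exponent (G ⧸ N)) := by
    haveI : NeZero (Monoid.exponent (G ⧸ N)) := ⟨Monoid.exponent_ne_zero_of_finite⟩
    infer_instance
  obtain ⟨lq, hlq⟩ := CommGroup.exists_apply_ne_one_of_hasEnoughRootsOfUnity (G ⧸ N) ℂ hq₀
  let l : G →* ℂˣ := lq.comp (QuotientGroup.mk' N)
  set K := l.ker with hK
  have hKidx : K.index ∣ Nat.card E := by
    have h1 : K.index ∣ N.index := Subgroup.index_dvd_of_le fun n hn => by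
      rw [hK, MonoidHom.mem_ker]
      show lq ((n : G) : G ⧸ N) = 1
      rw [(QuotientGroup.eq_one_iff n).2 hn, map_one]
    refine h1.trans ?_
    rw [Subgroup.index_eq_card]
    exact Subgroup.card_dvd_of_surjective f hsurj
  have hK2 : 2 ≤ K.index := by
    have h0 : K.index ≠ 0 := Subgroup.index_ne_zero_of_finite
    have h1 : K.index ≠ 1 := fun e => by
      rw [Subgroup.index_eq_one] at e
      obtain ⟨g, rfl⟩ := QuotientGroup.mk_surjective q₀
      exact hlq (MonoidHom.mem_ker.1 (show g ∈ K from e ▸ Subgroup.mem_top g))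
    omega
  obtain ⟨χ, hχd, hχu⟩ := huniq
  have hχ1 : (χ : G → ℂ) 1 = (p : ℂ) := by rw [charDeg_spec', hχd]
  have htw : ∀ g, (l g : ℂ) * (χ : G → ℂ) g = (χ : G → ℂ) g := by
    intro g
    have h1 := IsIrr.mul_linear χ.2 l
    have h2 : charDegree (fun g => (l g : ℂ) * (χ : G → ℂ) g) = p := by
      have h3 := charDeg_spec' (⟨_, h1⟩ : IrrCharacter G)
      change (l 1 : ℂ) * (χ : G → ℂ) 1 = _ at h3
      rw [map_one, Units.val_one, one_mul, hχ1] at h3
      exact_mod_cast h3.symm
    exact congrArg (fun ψ : IrrCharacter G => (ψ : G → ℂ) g) (hχu ⟨_, h1⟩ h2)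
  have hvan : ∀ g, g ∉ K → (χ : G → ℂ) g = 0 := by
    intro g hg
    have h1 : ((l g : ℂ) - 1) * (χ : G → ℂ) g = 0 := by linear_combination htw g
    exact (mul_eq_zero.1 h1).resolve_left fun e => hg (MonoidHom.mem_ker.2
      (Units.ext (sub_eq_zero.1 e)))
  haveI : K.Normal := inferInstance
  letI := Fintype.ofFinite K
  have hnorm : classInner (fun k : K => (χ : G → ℂ) k) (fun k : K => (χ : G → ℂ) k) = K.index := by
    have h1 := classInner_self_irr χ.2
    rw [classInner, inv_mul_eq_iff_eq_mul₀ (Nat.cast_ne_zero.2 Nat.card_pos.ne'), mul_one] at h1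
    rw [classInner, inv_mul_eq_iff_eq_mul₀ (Nat.cast_ne_zero.2 Nat.card_pos.ne'), ← Nat.cast_mul,
      Subgroup.card_mul_index, ← h1,
      ← Finset.sum_subtype (p := fun g => g ∈ K) (Finset.univ.filter fun g => g ∈ K) (by simp)
        (fun g => (χ : G → ℂ) g * conj ((χ : G → ℂ) g))]
    refine Finset.sum_subset (Finset.subset_univ _) fun g _ hg => ?_
    rw [hvan g (by simpa using hg), zero_mul]
  have hres : IsCharacter K (fun k : K => (χ : G → ℂ) k) := IsChar.res (IsIrr.isCharacter χ.2) K
  obtain ⟨θ, hθ⟩ : ∃ θ : IrrCharacter K, classInner (fun k : K => (χ : G → ℂ) k) (θ : K → ℂ) ≠ 0 := by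
    by_contra h
    push Not at h
    have h1 := classFunction_expansion (IsChar.classFun hres)
    rw [Finset.sum_eq_zero fun θ _ => by rw [h θ, zero_smul]] at h1
    have h2 := congrFun h1 1
    rw [Pi.zero_apply, OneMemClass.coe_one, hχ1] at h2
    exact hp.out.ne_zero (Nat.cast_eq_zero.1 h2)
  obtain ⟨a, ha⟩ := IsChar.classInner_nat hres (IsIrr.isCharacter θ.2)
  have hcl := Char.clifford K χ.2 θ.2 hθ
  rw [ha] at hcl hθ
  have ha0 : a ≠ 0 := fun e => hθ (by rw [e, Nat.cast_zero])
  set O := Char.conjOrbit K (θ : K → ℂ) with hO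
  have horb : ∀ ψ ∈ O, IsIrrCharacter K ψ := fun ψ hψ => by
    obtain ⟨g, rfl⟩ := (Char.mem_conjOrbit K).mp hψ
    exact IsIrr.conjN K θ.2 g
  have hnorm' : (K.index : ℂ) = (a : ℂ) * a * O.card := by
    rw [← hnorm, hcl, classInner_smul_left, classInner_sum_left]
    rw [Finset.sum_congr rfl (g := fun _ => (a : ℂ)) fun ψ hψ => ?_, Finset.sum_const, nsmul_eq_mul]
    · ring
    rw [classInner_smul_right, classInner_sum_right, Finset.sum_eq_single ψ
      (fun φ hφ hne => classInner_irr_ne (horb ψ hψ) (horb φ hφ) hne.symm) (fun h => absurd hψ h),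
      classInner_self_irr (horb ψ hψ), mul_one, map_natCast]
  obtain ⟨dθ, hdθ⟩ := IsChar.one_eq_nat (IsIrr.isCharacter θ.2)
  have hdeg : (p : ℂ) = (a : ℂ) * (O.card * dθ) := by
    rw [← hχ1, show (χ : G → ℂ) 1 = (fun k : K => (χ : G → ℂ) k) 1 from rfl, hcl, Pi.smul_apply,
      Finset.sum_apply, smul_eq_mul, Finset.sum_congr rfl (g := fun _ => (dθ : ℂ)) fun ψ hψ => ?_,
      Finset.sum_const, nsmul_eq_mul]
    obtain ⟨g, rfl⟩ := (Char.mem_conjOrbit K).mp hψ
    rw [Char.conjN_eq_comp]
    simp only [map_one]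
    exact hdθ
  have hn1 : K.index = a * a * O.card := by exact_mod_cast hnorm'
  have hn2 : p = a * (O.card * dθ) := by exact_mod_cast hdeg
  have hle := Nat.le_of_dvd (by
    have := Nat.card_pos (α := E); omega) hKidx
  have hO1 : 0 < O.card := Finset.card_pos.2 ⟨_, (Char.mem_conjOrbit K).2 ⟨1, Char.conjN_one K _⟩⟩
  have hat : a * O.card ≤ K.index := hn1 ▸ Nat.mul_le_mul_right _ (Nat.le_mul_self a)
  rcases (Nat.dvd_prime hp.out).1 (show a * O.card ∣ p from ⟨dθ, by rw [hn2, mul_assoc]⟩) with h | h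
  · obtain ⟨h1, h2⟩ := mul_eq_one.1 h
    rw [h1, h2] at hn1
    omega
  · omega

end Simple

end Cfsg.Agent.Block.UniqueDegP
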