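import Mathlib
import Cfsg.Prelude.Def_Blocks
import Cfsg.Agent.S4703
import Cfsg.Agent.S4504
import Cfsg.Agent.Lib.Block.UniqueDegP.Setup
import Cfsg.Agent.Lib.Block.UniqueDegP.Even
import Cfsg.Agent.Lib.Block.UniqueDegP.Count

/-!
A transitive group of prime degree `p` with one character of degree `p` and a trivial intersection
Sylow complement of index two in its normalizer is `PSL(2, p)` with `p ∈ {5, 7, 11}`.
-/

set_option autoImplicit false
set_option linter.style.haveILetI false
set_option linter.unusedSectionVars false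

namespace Cfsg.Agent.Block.UniqueDegP

open Cfsg Cfsg.Agent.Char
open scoped ComplexConjugate

universe u

variable {α : Type u} [Fintype α] [DecidableEq α] {p : ℕ} [hp : Fact p.Prime]

/-- A character with trivial kernel, from the simplicity. -/
theorem faithful_of_simple {G : Type u} [Group G] [Fintype G] [IsSimpleGroup G]
    (ψ : IrrCharacter G) (h : charDegree (ψ : G → ℂ) ≠ 1) :
    ∀ g : G, (ψ : G → ℂ) g = (ψ : G → ℂ) 1 → g = 1 := by
  have hc := IsIrr.isCharacter ψ.2
  rcases (charKer_normal hc).eq_bot_or_eq_top with e | e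
  · exact fun g hg => Subgroup.mem_bot.1 (e ▸ (mem_charKer hc).2 hg)
  · refine absurd ?_ h
    have hconst : ∀ g, (ψ : G → ℂ) g = (ψ : G → ℂ) 1 := fun g =>
      (mem_charKer hc).1 (e ▸ Subgroup.mem_top g)
    have h1 : classInner (ψ : G → ℂ) (fun _ => 1) = (ψ : G → ℂ) 1 := by
      rw [classInner, Finset.sum_congr rfl fun g _ => by rw [hconst g, map_one, mul_one],
        Finset.sum_const, Finset.card_univ, nsmul_eq_mul, ← Nat.card_eq_fintype_card,
        inv_mul_cancel_left₀ (Nat.cast_ne_zero.2 Nat.card_pos.ne')]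
    by_cases he : (ψ : G → ℂ) = fun _ => 1
    · have h2 := charDeg_spec' ψ
      rw [congrFun he 1] at h2
      exact_mod_cast h2.symm
    · rw [classInner_irr_ne ψ.2 isIrr_one he] at h1
      exact absurd h1.symm (IsIrr.one_ne_zero ψ.2)

/-- Five or more. -/
theorem five_le (hα : Fintype.card α = p) (G : Subgroup (Equiv.Perm α))
    (h : ∃ χ : IrrCharacter G, charDegree (χ : G → ℂ) = p) : 5 ≤ p := by
  obtain ⟨χ, hχ⟩ := h
  classical
  letI := Fintype.ofFinite G
  have h1 : p ^ 2 ≤ Nat.card G := by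
    have hsum : ∑ χ : IrrCharacter G, charDegree (χ : G → ℂ) ^ 2 = Nat.card G := by
      refine Nat.cast_injective (R := ℂ) ?_
      rw [← Cfsg.Agent.Char.sum_degree_sq (G := G), Nat.cast_sum]
      exact Fintype.sum_equiv (Equiv.refl _) _ _ fun χ => by
        rw [Nat.cast_pow, ← charDeg_spec' χ]; rfl
    rw [← hsum, ← hχ]
    exact Finset.single_le_sum (f := fun χ : IrrCharacter G => charDegree (χ : G → ℂ) ^ 2)
      (fun _ _ => Nat.zero_le _) (Finset.mem_univ χ)
  have h2 : Nat.card G ≤ p.factorial := by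
    refine (Subgroup.card_le_card_group G).trans_eq ?_
    rw [Nat.card_perm, Nat.card_eq_fintype_card, hα]
  rcases Nat.lt_or_ge p 4 with h3 | h3
  · exfalso
    have := hp.out.two_le
    interval_cases p <;> simp only [Nat.factorial] at h2 <;> omega
  · rcases Nat.eq_or_lt_of_le h3 with h4 | h4
    · exact absurd (h4 ▸ hp.out) (by norm_num)
    · exact h4

theorem main (hα : Fintype.card α = p) (G : Subgroup (Equiv.Perm α))
    [MulAction.IsPretransitive G α]
    (huniq : ∃! χ : IrrCharacter G, charDegree (χ : G → ℂ) = p) (P : Sylow p G) (E : Subgroup G)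
    (hPE : (P : Subgroup G) ⊔ E = Subgroup.normalizer ((P : Subgroup G) : Set G))
    (hPE' : (P : Subgroup G) ⊓ E = ⊥)
    (hNE : Nat.card (Subgroup.normalizer (E : Set G)) = 2 * Nat.card E)
    (hTI : ∀ g : G, g ∉ Subgroup.normalizer (E : Set G) →
      E ⊓ E.map (MulAut.conj g).toMonoidHom = ⊥) :
    (p = 5 ∨ p = 7 ∨ p = 11) ∧ ∃ (F : Type) (_ : Field F) (_ : Fintype F),
      Fintype.card F = p ∧ Nonempty (G ≃* Matrix.ProjectiveSpecialLinearGroup (Fin 2) F) := by
  classical
  letI := Fintype.ofFinite G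
  have h5 : 5 ≤ p := five_le hα G huniq.exists
  -- the Sylow subgroup
  obtain ⟨a⟩ : Nonempty α := Fintype.card_pos_iff.1 (hα ▸ hp.out.pos)
  have hidx : (MulAction.stabilizer G a).index = p := by
    rw [MulAction.index_stabilizer_of_transitive, Nat.card_eq_fintype_card, hα]
  have hdvd : p ∣ Nat.card G := hidx ▸ Subgroup.index_dvd_card _
  have hP : Nat.card P = p := by
    rw [P.card_eq_multiplicity]
    conv_rhs => rw [← pow_one p]
    congr 1
    refine le_antisymm ?_ ((hp.out.dvd_iff_one_le_factorization Nat.card_pos.ne').1 hdvd)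
    by_contra h
    push Not at h
    have h2 : p ^ 2 ∣ p.factorial := by
      refine ((hp.out.pow_dvd_iff_le_factorization Nat.card_pos.ne').2 h).trans ?_
      have := Subgroup.card_subgroup_dvd_card G
      rwa [Nat.card_perm, Nat.card_eq_fintype_card (α := α), hα] at this
    obtain ⟨q, hq⟩ : ∃ q, p = q + 1 := ⟨p - 1, by omega⟩
    subst hq
    rw [Nat.factorial_succ, pow_two] at h2
    have h3 := Nat.dvd_of_mul_dvd_mul_left (Nat.succ_pos q) h2
    rw [hp.out.dvd_factorial] at h3
    omega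
  haveI : IsCyclic P := isCyclic_of_prime_card hP
  obtain ⟨x, hxP, hx⟩ : ∃ x ∈ (P : Subgroup G), orderOf x = p := by
    obtain ⟨y, hy⟩ := exists_prime_orderOf_dvd_card' (G := (P : Subgroup G)) p (by rw [hP])
    exact ⟨y, y.2, by rw [Subgroup.orderOf_coe, hy]⟩
  have hPx : (P : Subgroup G) = Subgroup.zpowers x :=
    (Subgroup.eq_of_le_of_card_ge (Subgroup.zpowers_le.2 hxP) (by rw [Nat.card_zpowers, hx]; exact hP.le)).symm
  have hscp : SCP.Hyp p x := ⟨hx, cent_eq hα G hx⟩
  set N := Subgroup.normalizer ((P : Subgroup G) : Set G) with hN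
  have hEN : E ≤ N := le_sup_right.trans hPE.le
  -- the complement
  have hEcard : SCP.e x = Nat.card E := by
    have h1 := SCP.card_N hscp
    have hNx : SCP.N x = (P : Subgroup G) ⊔ E := by
      rw [hPE, hN, hPx]
    have h2 : Nat.card ((P : Subgroup G) ⊔ E : Subgroup G) = p * Nat.card E := by
      conv_rhs => rw [← hP]
      rw [← Nat.card_prod]
      refine (Nat.card_congr (Equiv.ofBijective
        (fun q : P × E => (⟨(q.1 : G) * q.2,
          mul_mem (Subgroup.mem_sup_left q.1.2) (Subgroup.mem_sup_right q.2.2)⟩ :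
            ((P : Subgroup G) ⊔ E : Subgroup G))) ⟨?_, ?_⟩)).symm
      · exact fun q q' h => Subgroup.mul_injective_of_disjoint (disjoint_iff.2 hPE')
          (congrArg Subtype.val h)
      · rintro ⟨y, hy⟩
        obtain ⟨v, hv, w, hw, rfl⟩ := BSWRec.mem_sup_of_le_normalizer hEN hy
        exact ⟨(⟨v, hv⟩, ⟨w, hw⟩), rfl⟩
    rw [hNx, h2] at h1
    exact (Nat.eq_of_mul_eq_mul_left hp.out.pos h1).symm
  have hdiv : Nat.card E ∣ p - 1 := hEcard ▸ SCP.e_dvd hscp
  have hEc : IsCyclic E := by
    let f : E →* MulAut (P : Subgroup G) :=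
      ((P : Subgroup G).normalizerMonoidHom).comp (Subgroup.inclusion hEN)
    haveI : IsCyclic (ZMod (Nat.card (P : Subgroup G)))ˣ :=
      ZMod.isCyclic_units_prime (hP.symm ▸ hp.out)
    refine isCyclic_of_injective ((IsCyclic.mulAutMulEquiv (G := (P : Subgroup G))).toMonoidHom.comp f) ?_
    refine (IsCyclic.mulAutMulEquiv (G := (P : Subgroup G))).injective.comp ((MonoidHom.ker_eq_bot_iff f).1 ?_)
    rw [Subgroup.eq_bot_iff_forall]
    intro g hg
    have h1 : Subgroup.inclusion hEN g ∈
        ((Subgroup.centralizer ((P : Subgroup G) : Set G)).subgroupOf N) := by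
      have h0 : Subgroup.inclusion hEN g ∈ ((P : Subgroup G).normalizerMonoidHom).ker := hg
      rw [Subgroup.normalizerMonoidHom_ker] at h0
      exact h0
    have h2 : (g : G) ∈ (P : Subgroup G) := by
      have h3 : (g : G) ∈ Subgroup.centralizer ((P : Subgroup G) : Set G) := h1
      rw [hPx, SCP.cent_P hscp] at h3
      rw [hPx]
      exact h3
    have h4 : (g : G) ∈ (P : Subgroup G) ⊓ E := ⟨h2, g.2⟩
    rw [hPE', Subgroup.mem_bot] at h4
    exact Subtype.ext h4
  have hElt : Nat.card E < p := by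
    have := Nat.le_of_dvd (by omega) hdiv
    omega
  haveI := isSimple hα G huniq P hP E hPE hEc hElt
  have hna : ¬ ∀ b c : G, b * c = c * b := by
    intro hc
    obtain ⟨χ, hχ, -⟩ := huniq
    have h1 := IsIrr.one_of_comm hc χ.2
    rw [charDeg_spec', hχ] at h1
    exact hp.out.ne_one (by exact_mod_cast h1)
  have he2 : 2 ≤ Nat.card E := by
    by_contra h
    have h1 : SCP.e x = 1 := by
      have := Nat.card_pos (α := E)
      omega
    obtain ⟨K, hK, -, hKi⟩ := SCP.exists_complement hscp h1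
    rcases hK.eq_bot_or_eq_top with e | e
    · rw [e, Subgroup.index_bot] at hKi
      haveI := isCyclic_of_prime_card hKi
      exact hna fun b c => (IsCyclic.commGroup (α := G)).mul_comm b c
    · rw [e, Subgroup.index_top] at hKi
      exact hp.out.ne_one hKi.symm
  have hidx' : ∃ H : Subgroup G, H.index = p := ⟨_, hidx⟩
  rcases Nat.even_or_odd (Nat.card E) with hev | hodd
  · obtain ⟨F, _, _, hF, ⟨φ⟩⟩ := even_case hna hEc (even_iff_two_dvd.1 hev) hNE hTI
    exact conclude h5 hidx' hF φ
  -- the odd case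
  have he3 : 3 ≤ Nat.card E := by
    obtain ⟨k, hk⟩ := hodd
    omega
  obtain ⟨hcent, hconj, hinv⟩ := odd_struct hna hEc hodd hNE hTI
  obtain ⟨χp, hχp, hu⟩ := huniq
  obtain ⟨S, hS, hSd, hpv, -, hτS⟩ :=
    eside h5 hEc hodd he3 hdiv hcent hconj hinv χp hχp hu
  obtain ⟨D⟩ := pside hscp h5 (hEcard ▸ hodd) (hEcard ▸ he3) χp hχp S (hEcard ▸ hS) hSd hpv hτS
  obtain ⟨M, hM⟩ := exists_isPModular p hp.out
  obtain ⟨ψ, -, hψ⟩ := D.exists_deg_e hM (hEcard ▸ he3) (SCP.fac hscp)
  rw [hEcard] at hψ
  have hfaith := faithful_of_simple ψ (by omega)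
  have hZ : Subgroup.center G = ⊥ := by
    rcases (inferInstance : (Subgroup.center G).Normal).eq_bot_or_eq_top with e | e
    · exact e
    · exact absurd (fun b c => (Subgroup.mem_center_iff.1 (e ▸ Subgroup.mem_top c) b)) hna
  have hsmall : 2 * Nat.card E + 1 ≤ p := by
    obtain ⟨m, hm⟩ := hdiv
    rcases Nat.lt_or_ge m 2 with h | h
    · exfalso
      interval_cases m
      · omega
      · obtain ⟨k, hk⟩ := hodd
        obtain ⟨l, hl⟩ := hp.out.odd_of_ne_two (by omega)
        omega
    · have := Nat.mul_le_mul_left (Nat.card E) h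
      omega
  have iso : ∀ {H : Type} [Group H], Nonempty (G ⧸ Subgroup.center G ≃* H) → Nonempty (G ≃* H) := by
    rintro H _ ⟨φ⟩
    exact ⟨((QuotientGroup.quotientBot (G := G)).symm.trans
      (QuotientGroup.quotientMulEquivOfEq hZ.symm)).trans φ⟩
  have hnn : ¬ (P : Subgroup G).Normal := by
    intro h
    rcases h.eq_bot_or_eq_top with e | e
    · rw [e, Subgroup.card_bot] at hP
      omega
    · refine hna fun b c => ?_
      have hb : b ∈ (P : Subgroup G) := e ▸ Subgroup.mem_top b
      have hc : c ∈ (P : Subgroup G) := e ▸ Subgroup.mem_top c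
      exact congrArg Subtype.val ((IsCyclic.commGroup (α := (P : Subgroup G))).mul_comm ⟨b, hb⟩ ⟨c, hc⟩)
  rcases Nat.lt_or_ge 7 p with h7 | h7
  · rcases Cfsg.Agent.S4703.result (by rw [hZ, Subgroup.card_bot]; exact odd_one) p h7 P hP hnn
      (ψ : G → ℂ) ψ.2 hfaith with ⟨⟨F, _, _, hF, hφ⟩, -⟩ | h
    · obtain ⟨φ⟩ := iso hφ
      exact conclude h5 hidx' (by rw [hF]; exact hp.out.odd_of_ne_two (by omega)) φ
    · rw [hψ] at h
      omega
  · have hp7 : p = 7 ∧ Nat.card E = 3 := by
      obtain ⟨k, hk⟩ := hodd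
      obtain ⟨l, hl⟩ := hp.out.odd_of_ne_two (by omega)
      omega
    obtain ⟨φ⟩ := iso (Cfsg.Agent.S4504.result p hp.out hdvd
      (fun h => by
        rw [hp.out.pow_dvd_iff_le_factorization Nat.card_pos.ne', SCP.fac hscp] at h
        omega)
      (fun H hH hHc => by
        rcases hH.eq_bot_or_eq_top with e | e
        · rw [e, Subgroup.card_bot] at hHc; omega
        · rw [e, Subgroup.card_top] at hHc
          haveI := isCyclic_of_prime_card hHc
          exact hna fun b c => (IsCyclic.commGroup (α := G)).mul_comm b c)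
      (ψ : G → ℂ) (IsIrr.isCharacter ψ.2) hfaith (by rw [hψ]; omega))
    exact conclude h5 hidx' (by rw [ZMod.card]; exact hp.out.odd_of_ne_two (by omega)) φ

end Cfsg.Agent.Block.UniqueDegP
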